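import Cfsg.Agent.H256.RC.ZBase
import Cfsg.Agent.H256.RC.TwW

/-!
# S3510, triality type (iii): base change to a larger field (helper256)

* `gK φ` : coordinatewise `φ⁻³`; `tk_dia` : `dia (fG φ)` is a `TK` over any field;
* `io` : `V8 F → V8 K`; `exists_bc` : the extension of an element of `AutD (fG s)`;
* `exists_wt` : the roots of unity.
-/

set_option autoImplicit false

namespace Cfsg.Agent.H256.RC

open Module QuadraticMap Cfsg.Agent.LieClassical.OrthCore Cfsg.Agent.LieClassical.OrthTrans
  Cfsg.Agent.LieClassical.OrthSimple Cfsg.Agent.ClassicalGeometry.OrthAut1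
  Cfsg.Agent.ClassicalGeometry.OrthSemi Cfsg.Agent.H198.Classes
  Cfsg.Agent.LieClassical.QuadForms Cfsg.Agent.H198.ClassesPlus
  Cfsg.Agent.ClassicalGeometry.TrialityOct Cfsg.Agent.ClassicalGeometry.Triality
  Cfsg.Agent.ClassicalGeometry.TrialitySpaces Cfsg.Agent.H198.TriBase Cfsg.Agent.H198.TriAut
  Cfsg.Agent.H198.TriDia Cfsg.Agent.H198.TriTC Cfsg.Agent.H198.TwComp

universe u

section tk

variable {K : Type u} [Field K] (φ : K ≃+* K)

/-- coordinatewise `φ⁻³` -/
def gK (v : V8 K) : V8 K := fP φ.symm (fP φ.symm (fP φ.symm v))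

theorem fP_add (x y : V8 K) : fP φ (x + y) = fP φ x + fP φ y := funext fun _ => map_add φ _ _

theorem fP_smul (k : K) (x : V8 K) : fP φ (k • x) = φ k • fP φ x := funext fun _ => map_mul φ _ _

theorem fP_oconj (x : V8 K) : fP φ (oconj x) = oconj (fP φ x) := aut_oconj (tri_fG φ) x

theorem fP_norm (x : V8 K) : plusForm 4 K (fP φ x) = φ (plusForm 4 K x) := by
  rw [(isSS_fP φ).form, one_mul]

theorem fP_symm (x : V8 K) : fP φ (fP φ.symm x) = x := funext fun _ => φ.apply_symm_apply _

theorem fP_symm' (x : V8 K) : fP φ.symm (fP φ x) = x := funext fun _ => φ.symm_apply_apply _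

theorem dia_fP (u w : V8 K) : dia (fG φ) u w = omul (fP φ.symm (oconj u)) (fP φ (oconj w)) := rfl

/-- the twisted product over any field -/
theorem tk_dia : TK (plusForm 4 K) φ (gK φ) (dia (fG φ)) := by
  refine ⟨fun a b c => ?_, fun a b c => ?_, fun k a b => ?_, fun k a b => ?_, fun a b => ?_, fun a b => ?_,
    fun a b => ?_, fun k a => ?_, fun v => ⟨fP φ (fP φ (fP φ v)), ?_⟩, fun a => ?_⟩
  · rw [dia_fP, dia_fP, dia_fP, oconj_add, fP_add, add_omul]
  · rw [dia_fP, dia_fP, dia_fP, oconj_add, fP_add, omul_add]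
  · rw [dia_fP, dia_fP, oconj_smul, fP_smul, smul_omul]
  · rw [dia_fP, dia_fP, oconj_smul, fP_smul, omul_smul]
  · have e1 : fP φ.symm (oconj (dia (fG φ) a b)) = omul b (fP φ.symm (fP φ.symm a)) := by
      rw [dia_fP, oconj_omul, ← fP_oconj, ← fP_oconj, oconj_oconj, oconj_oconj, fP_omul, fP_symm']
    have e2 : fP φ (oconj (gK φ a)) = oconj (fP φ.symm (fP φ.symm a)) := by
      rw [gK, fP_oconj, fP_symm]
    rw [dia_fP, e1, e2, omul_omul_oconj, fP_norm, fP_norm]
  · have e1 : fP φ (oconj (dia (fG φ) b (gK φ a))) = omul (fP φ.symm a) b := by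
      rw [dia_fP, oconj_omul, ← fP_oconj, ← fP_oconj, oconj_oconj, oconj_oconj, fP_omul, fP_symm, gK, fP_symm, fP_symm]
    rw [dia_fP φ a, e1, fP_oconj, oconj_omul_omul, fP_norm]
  · rw [gK, fP_add, fP_add, fP_add]; rfl
  · rw [gK, fP_smul, fP_smul, fP_smul]; rfl
  · rw [gK, fP_symm', fP_symm', fP_symm']
  · rw [gK, fP_norm, fP_norm, fP_norm]

end tk

section bc

variable {F K : Type u} [Field F] [Field K] [Algebra F K]

/-- the inclusion -/
def io (K : Type u) [Field K] [Algebra F K] (x : V8 F) : V8 K := fun i => algebraMap F K (x i)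

theorem io_add (x y : V8 F) : io K (x + y) = io K x + io K y := funext fun _ => map_add _ _ _

theorem io_smul (c : F) (x : V8 F) : io K (c • x) = algebraMap F K c • io K x := funext fun _ => map_mul _ _ _

theorem io_inj {x y : V8 F} (h : io K x = io K y) : x = y :=
  funext fun i => (algebraMap F K).injective (congrFun h i)

theorem io_norm (x : V8 F) : plusForm 4 K (io K x) = algebraMap F K (plusForm 4 F x) := by
  rw [norm8, norm8]
  simp only [map_add, map_mul]
  rfl

theorem io_oconj (x : V8 F) : oconj (io K x) = io K (oconj x) := by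
  apply ext8 <;> simp [io, oconj_l0, oconj_l1, oconj_l2, oconj_l3, oconj_r0, oconj_r1, oconj_r2, oconj_r3]

theorem io_omul (x y : V8 F) : omul (io K x) (io K y) = io K (omul x y) := by
  apply ext8 <;> simp [io, omul_l0, omul_l1, omul_l2, omul_l3, omul_r0, omul_r1, omul_r2, omul_r3]

variable {s : F ≃+* F} {φ : K ≃+* K}

theorem io_fP (hφ : ∀ a, φ (algebraMap F K a) = algebraMap F K (s a)) (x : V8 F) : fP φ (io K x) = io K (fP s x) :=
  funext fun _ => hφ _

theorem hsymm (hφ : ∀ a, φ (algebraMap F K a) = algebraMap F K (s a)) (a : F) :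
    φ.symm (algebraMap F K a) = algebraMap F K (s.symm a) := by
  rw [RingEquiv.symm_apply_eq, hφ, RingEquiv.apply_symm_apply]

theorem io_dia (hφ : ∀ a, φ (algebraMap F K a) = algebraMap F K (s a)) (u w : V8 F) :
    dia (fG φ) (io K u) (io K w) = io K (dia (fG s) u w) := by
  rw [dia_fP, dia_fP, io_oconj, io_oconj, io_fP hφ, io_fP (hsymm hφ), io_omul]

/-- induction -/
theorem io_induction {P : V8 K → Prop} (h0 : ∀ x : V8 F, P (io K x)) (hadd : ∀ x y, P x → P y → P (x + y))
    (hsmul : ∀ (k : K) x, P x → P (k • x)) (v : V8 K) : P v := by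
  have h1 : v = ∑ i, v i • io K (Pi.single i (1 : F)) := by
    funext j
    rw [Finset.sum_apply, Finset.sum_eq_single j]
    · simp [io]
    · intro i _ hij
      simp [io, hij.symm]
    · intro h
      exact absurd (Finset.mem_univ j) h
  rw [h1]
  have h2 : P 0 := by
    have := h0 0
    have e : io K (0 : V8 F) = 0 := funext fun _ => map_zero _
    rwa [e] at this
  refine Finset.sum_induction _ P hadd h2 (fun i _ => hsmul _ _ (h0 _))

/-- the extension of a linear map -/
noncomputable def exN (K : Type u) [Field K] [Algebra F K] (c : V8 F →ₗ[F] V8 F) : V8 K →ₗ[K] V8 K :=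
  (Pi.basisFun K (Fin 4 ⊕ Fin 4)).constr K (fun i => io K (c (Pi.single i (1 : F))))

theorem exN_io (c : V8 F →ₗ[F] V8 F) (x : V8 F) : exN K c (io K x) = io K (c x) := by
  have h1 : x = ∑ i, x i • (Pi.single i (1 : F) : V8 F) := by
    funext j
    rw [Finset.sum_apply, Finset.sum_eq_single j]
    · simp
    · intro i _ hij
      simp [hij.symm]
    · intro h
      exact absurd (Finset.mem_univ j) h
  rw [exN, Basis.constr_apply_fintype]
  conv_rhs => rw [h1]
  rw [map_sum]
  have h2 : ∀ (t : Finset (Fin 4 ⊕ Fin 4)) (f : Fin 4 ⊕ Fin 4 → V8 F), io K (∑ i ∈ t, f i) = ∑ i ∈ t, io K (f i) := by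
    intro t f
    classical
    induction t using Finset.induction_on with
    | empty => exact funext fun _ => map_zero _
    | insert a t ha ih => rw [Finset.sum_insert ha, Finset.sum_insert ha, io_add, ih]
  rw [h2]
  refine Finset.sum_congr rfl fun i _ => ?_
  rw [map_smul, io_smul]
  rfl

/-- base change of an automorphism of the twisted product -/
theorem exists_bc (h3 : ∀ a, s (s (s a)) = a) (hφ : ∀ a, φ (algebraMap F K a) = algebraMap F K (s a))
    {c : V8 F ≃ₗ[F] V8 F} (hc : c ∈ AutD (fG s)) {n : ℕ} (hcn : c ^ n = 1) :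
    Au3 (plusForm 4 K) (gK φ) (dia (fG φ)) n (exN K (c : V8 F →ₗ[F] V8 F)) := by
  have hN : ∀ x : V8 F, exN K (c : V8 F →ₗ[F] V8 F) (io K x) = io K (c x) := fun x => exN_io _ x
  set N := exN K (c : V8 F →ₗ[F] V8 F) with hNdef
  have ht := tk_dia φ
  refine ⟨?_, ?_, ?_, ?_⟩
  · intro a b
    refine io_induction (F := F) (P := fun a => N (dia (fG φ) a b) = dia (fG φ) (N a) (N b)) ?_ ?_ ?_ a
    · intro x
      refine io_induction (F := F) (P := fun b => N (dia (fG φ) (io K x) b) = dia (fG φ) (N (io K x)) (N b)) ?_ ?_ ?_ b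
      · intro y
        rw [io_dia hφ, hN, hN, hN, io_dia hφ, hc.2]
      · intro y z hy hz
        rw [ht.add_right, map_add, map_add, ht.add_right, hy, hz]
      · intro k y hy
        rw [ht.smul_right, map_smul, map_smul, ht.smul_right, hy]
    · intro y z hy hz
      rw [ht.add_left, map_add, map_add, ht.add_left, hy, hz]
    · intro k y hy
      rw [ht.smul_left, map_smul, map_smul, ht.smul_left, hy]
  · have hpol : ∀ x y : V8 K, polar (plusForm 4 K) (N x) (N y) = polar (plusForm 4 K) x y := by
      intro x y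
      refine io_induction (F := F) (P := fun x => polar (plusForm 4 K) (N x) (N y) = polar (plusForm 4 K) x y)
        ?_ ?_ ?_ x
      · intro x
        refine io_induction (F := F) (P := fun y => polar (plusForm 4 K) (N (io K x)) (N y) =
          polar (plusForm 4 K) (io K x) y) ?_ ?_ ?_ y
        · intro y
          have e : ∀ x y : V8 F, polar (plusForm 4 K) (io K x) (io K y) =
              algebraMap F K (polar (plusForm 4 F) x y) := by
            intro x y
            simp only [QuadraticMap.polar]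
            rw [← io_add, io_norm, io_norm, io_norm, map_sub, map_sub]
          rw [hN, hN, e, e, AutD_polar hc]
        · intro y z hy hz
          rw [map_add, polar_add_right, polar_add_right, hy, hz]
        · intro k y hy
          rw [map_smul, polar_smul_right, polar_smul_right, hy]
      · intro x z hx hz
        rw [map_add, polar_add_left, polar_add_left, hx, hz]
      · intro k x hx
        rw [map_smul, polar_smul_left, polar_smul_left, hx]
    intro v
    refine io_induction (F := F) (P := fun v => plusForm 4 K (N v) = plusForm 4 K v) ?_ ?_ ?_ v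
    · intro x
      rw [hN, io_norm, io_norm, AutD_norm hc]
    · intro x y hx hy
      have h1 := hpol x y
      rw [map_add, Q_add, Q_add, h1, hx, hy]
    · intro k x hx
      rw [map_smul, QuadraticMap.map_smul, QuadraticMap.map_smul, hx]
  · intro v
    refine io_induction (F := F) (P := fun v => N (gK φ v) = gK φ (N v)) ?_ ?_ ?_ v
    · intro x
      have e : gK φ (io K x) = io K x := by
        rw [gK, io_fP (hsymm hφ), io_fP (hsymm hφ), io_fP (hsymm hφ)]
        congr 1
        funext i
        change s.symm (s.symm (s.symm (x i))) = x i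
        rw [RingEquiv.symm_apply_eq, RingEquiv.symm_apply_eq, RingEquiv.symm_apply_eq, h3]
      have e' : gK φ (io K (c x)) = io K (c x) := by
        rw [gK, io_fP (hsymm hφ), io_fP (hsymm hφ), io_fP (hsymm hφ)]
        congr 1
        funext i
        change s.symm (s.symm (s.symm (c x i))) = c x i
        rw [RingEquiv.symm_apply_eq, RingEquiv.symm_apply_eq, RingEquiv.symm_apply_eq, h3]
      rw [e, hN, e']
    · intro x y hx hy
      rw [ht.g_add, map_add, map_add, ht.g_add, hx, hy]
    · intro k x hx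
      rw [ht.g_smul, map_smul, map_smul, ht.g_smul, hx]
  · have h1 : ∀ (i : ℕ) (x : V8 F), (N ^ i) (io K x) = io K ((c ^ i) x) := by
      intro i
      induction i with
      | zero => intro x; rfl
      | succ i ih =>
        intro x
        rw [pow_succ, pow_succ]
        change (N ^ i) (N (io K x)) = _
        rw [hN, ih]
        rfl
    apply LinearMap.ext
    intro v
    refine io_induction (F := F) (P := fun v => (N ^ n) v = (1 : Module.End K (V8 K)) v) ?_ ?_ ?_ v
    · intro x
      rw [h1, hcn]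
      rfl
    · intro x y hx hy
      rw [map_add, map_add, hx, hy]
    · intro k x hx
      rw [map_smul, map_smul, hx]

end bc

/-! ### roots of unity -/

theorem exists_wt {K : Type u} [Field K] [IsAlgClosed K] {φ : K ≃+* K} {l : ℕ} [Fact l.Prime] (hl : (l : K) ≠ 0) {k : ℕ}
    (hk : ∀ c : K, c ^ l = 1 → φ c = c ^ k) : ∃ e : ZMod l → K, Wt φ l (k : ZMod l) e := by
  have hp : l.Prime := Fact.out
  have : NeZero (l : K) := ⟨hl⟩
  obtain ⟨ζ, hζ⟩ := HasEnoughRootsOfUnity.exists_primitiveRoot K l
  have hmod : ∀ n : ℕ, ζ ^ n = ζ ^ (n % l) := by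
    intro n
    conv_lhs => rw [← Nat.mod_add_div n l, pow_add, pow_mul, hζ.pow_eq_one, one_pow, mul_one]
  refine ⟨fun i => ζ ^ i.val, ?_, ?_, ?_, ?_, ?_⟩
  · change ζ ^ (0 : ZMod l).val = 1
    rw [ZMod.val_zero, pow_zero]
  · intro i j
    change ζ ^ (i + j).val = ζ ^ i.val * ζ ^ j.val
    rw [ZMod.val_add, ← hmod, pow_add]
  · intro i j hij
    exact ZMod.val_injective l (hζ.pow_inj (ZMod.val_lt i) (ZMod.val_lt j) hij)
  · intro i
    change φ (ζ ^ i.val) = ζ ^ ((k : ZMod l) * i).val
    rw [ZMod.val_mul, ZMod.val_natCast, hk _ (by rw [← pow_mul, mul_comm, pow_mul, hζ.pow_eq_one, one_pow]), ← pow_mul,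
      mul_comm, hmod, Nat.mul_mod, Nat.mod_eq_of_lt (ZMod.val_lt i)]
  · intro c hc
    obtain ⟨i, hi, rfl⟩ := hζ.eq_pow_of_pow_eq_one hc
    exact ⟨(i : ZMod l), by
      change ζ ^ (i : ZMod l).val = ζ ^ i
      rw [ZMod.val_natCast, Nat.mod_eq_of_lt hi]⟩

end Cfsg.Agent.H256.RC
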