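import Cfsg.Agent.H256.RC.ZFourK

/-!
# S3510, triality type (iii): multiplicities of an automorphism of the twisted product without fixed vectors; `K`-level
(helper256)
-/

set_option autoImplicit false

namespace Cfsg.Agent.H256.RC

open Module QuadraticMap Cfsg.Agent.LieClassical.OrthCore Cfsg.Agent.LieClassical.OrthTrans

universe u v

variable {K : Type u} {V : Type v} [Field K] [AddCommGroup V] [Module K V]
variable {Q : QuadraticForm K V} {φ : K ≃+* K} {g : V → V} {m : V → V → V} {l : ℕ} {N : V →ₗ[K] V}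
variable {a b : ZMod l} {e : ZMod l → K}

theorem zmod_ne [Fact l.Prime] (h5 : 5 ≤ l) : (2 : ZMod l) ≠ 0 ∧ (3 : ZMod l) ≠ 0 := by
  have hp : l.Prime := Fact.out
  constructor
  · intro h
    have := (Nat.prime_dvd_prime_iff_eq hp Nat.prime_two).1 (zmod_num (l := l) (n := 2) (by exact_mod_cast h))
    omega
  · intro h
    have := (Nat.prime_dvd_prime_iff_eq hp Nat.prime_three).1 (zmod_num (l := l) (n := 3) (by exact_mod_cast h))
    omega

section main

variable [Fact l.Prime] [IsAlgClosed K] [FiniteDimensional K V]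

omit [Fact l.Prime] [IsAlgClosed K] in
theorem eq_zero_of_dd {j : ZMod l} (hj : dd N e j = 0) {x : V} (hx : x ∈ Ei N (e j)) : x = 0 := by
  have h1 : finrank K (Ei N (e j)) = 0 := hj
  rw [Submodule.finrank_eq_zero] at h1
  rw [h1] at hx
  exact (Submodule.mem_bot K).1 hx

/-- no zero divisors on `E_i × E_i` if `E_((a - b) i) = 0` -/
theorem nzd (h : TK Q φ g m) (hQ : Nondeg Q) (he : Wt φ l a e) (hN : Au3 Q g m l N) (hab : a * b = 1)
    (hl : (l : K) ≠ 0) {i : ZMod l} (hi : dd N e (-(b * i) + a * i) = 0) {u w : V} (hu : u ∈ Ei N (e i))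
    (hw : w ∈ Ei N (e i)) (hu0 : u ≠ 0) (h1 : m u w = 0) : w = 0 := by
  obtain ⟨x, hx, hxu⟩ := he.exists_dual hl hN hQ hu hu0
  have h2 : m x w = 0 := by
    apply eq_zero_of_dd hi
    have h3 := he.mul_mem h hN hab hx hw
    rwa [mul_neg] at h3
  exact h.eq_zero_of hxu h1 h2

/-- the determinant argument -/
theorem dd_le_one (h : TK Q φ g m) (hQ : Nondeg Q) (he : Wt φ l a e) (hN : Au3 Q g m l N) (hab : a * b = 1)
    (hl : (l : K) ≠ 0) {i : ZMod l} (hi : dd N e (-(b * i) + a * i) = 0) (hi' : dd N e (b * i + a * i) ≤ dd N e i) :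
    dd N e i ≤ 1 := by
  by_contra hcon
  push Not at hcon
  obtain ⟨x, hx, y, hy, hx0, hy0, hxy⟩ := h.exists_zero (A := Ei N (e i)) (B := Ei N (e i))
    (C := Ei N (e (b * i + a * i))) (fun x hx y hy => he.mul_mem h hN hab hx hy) hcon (by
      have h7 : 1 < finrank K (Ei N (e i)) := hcon
      omega) hi'
  exact hy0 (nzd h hQ he hN hab hl hi hx hy hx0 hxy)

theorem dd_le (h : TK Q φ g m) (hQ : Nondeg Q) (he : Wt φ l a e) (hN : Au3 Q g m l N) (hab : a * b = 1)
    (hl : (l : K) ≠ 0) {i : ZMod l} (hi : dd N e (-(b * i) + a * i) = 0) : dd N e i ≤ dd N e (b * i + a * i) := by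
  by_cases ht : dd N e i = 0
  · omega
  have h5 : 0 < finrank K (Ei N (e i)) := Nat.pos_of_ne_zero ht
  have : Nontrivial (Ei N (e i)) := Module.finrank_pos_iff.1 h5
  obtain ⟨u, hu⟩ := exists_ne (0 : Ei N (e i))
  exact semi_finrank_le (K := K) (ψ := φ)
    (fun w : Ei N (e i) => (⟨m u w, he.mul_mem h hN hab u.2 w.2⟩ : Ei N (e (b * i + a * i))))
    (fun x y => Subtype.ext (h.add_right _ _ _)) (fun k x => Subtype.ext (h.smul_right _ _ _))
    (fun w hw => Subtype.ext (nzd h hQ he hN hab hl hi u.2 w.2 (fun h6 => hu (Subtype.ext h6)) (congrArg Subtype.val hw)))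

/-- multiplicities of an automorphism without fixed vectors -/
theorem mult_K (h : TK Q φ g m) (hQ : Nondeg Q) (h8 : finrank K V = 8) (he : Wt φ l a e) (hN : Au3 Q g m l N)
    (h5 : 5 ≤ l) (hcase : a = 1 ∨ a = -1 ∨ a * a + a + 1 = 0 ∨ a * a - a + 1 = 0) (h0 : dd N e 0 = 0)
    (hl : (l : K) ≠ 0) :
    (∀ i, dd N e i ≤ 3) ∧ ∀ i j, 2 ≤ dd N e i → 2 ≤ dd N e j → j = i ∨ j = -i := by
  obtain ⟨h2', h3'⟩ := zmod_ne (l := l) h5
  have hneg : ∀ i, dd N e (-i) = dd N e i := he.dd_neg hl hN hQ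
  have hsum : ∑ i, dd N e i = 8 := by rw [he.sum_dd hl hN.pow, h8]
  -- reduction: `a = ±1`
  have hA : a = 1 ∨ a = -1 → ∀ i, dd N e i ≤ 1 := by
    intro ha
    have hab : a * a = 1 := by rcases ha with rfl | rfl <;> ring
    have hz : ∀ i : ZMod l, dd N e (-(a * i) + a * i) = 0 := fun i => by rw [neg_add_cancel, h0]
    have hle : ∀ i, dd N e i ≤ dd N e (2 * i) := by
      intro i
      have h1 := dd_le h hQ he hN hab hl (hz i)
      rcases ha with rfl | rfl
      · rwa [one_mul, ← two_mul] at h1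
      · rw [neg_one_mul, ← two_mul, mul_neg, hneg] at h1
        exact h1
    have heq : ∀ i, dd N e (2 * i) = dd N e i := inv_of_le h2' hle
    intro i
    refine dd_le_one h hQ he hN hab hl (hz i) (le_of_eq ?_)
    rcases ha with rfl | rfl
    · rw [one_mul, ← two_mul, heq]
    · rw [neg_one_mul, ← two_mul, mul_neg, hneg, heq]
  rcases hcase with ha | ha | hcase
  · exact ⟨fun i => (hA (Or.inl ha) i).trans (by norm_num), fun i j hi _ => absurd (hA (Or.inl ha) i) (by omega)⟩
  · exact ⟨fun i => (hA (Or.inr ha) i).trans (by norm_num), fun i j hi _ => absurd (hA (Or.inr ha) i) (by omega)⟩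
  -- now `a² ± a + 1 = 0`
  obtain ⟨b, ε, hab, hε, hsum', hdiff⟩ : ∃ b ε : ZMod l, a * b = 1 ∧ (ε = 1 ∨ ε = -1) ∧ b + a = ε ∧
      (a - b) * (a - b) = -3 := by
    rcases hcase with h1 | h1
    · exact ⟨-1 - a, -1, by linear_combination -h1, Or.inr rfl, by ring, by linear_combination 4 * h1⟩
    · exact ⟨1 - a, 1, by linear_combination -h1, Or.inl rfl, by ring, by linear_combination 4 * h1⟩
  set κ := a - b with hκ
  have hb' : ∀ i : ZMod l, dd N e (b * i + a * i) = dd N e i := by
    intro i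
    rw [← add_mul, hsum']
    rcases hε with rfl | rfl
    · rw [one_mul]
    · rw [neg_one_mul, hneg]
  have hkey : ∀ i, 2 ≤ dd N e i → 1 ≤ dd N e (κ * i) := by
    intro i hi
    by_contra hcon
    have h1 : dd N e (-(b * i) + a * i) = 0 := by
      have e1 : -(b * i) + a * i = κ * i := by rw [hκ]; ring
      rw [e1]
      omega
    have := dd_le_one h hQ he hN hab hl h1 (le_of_eq (hb' i))
    omega
  have hne0 : ∀ i, dd N e i ≠ 0 → i ≠ 0 := by
    rintro i hi rfl
    exact hi h0
  have hκ1 : ∀ i : ZMod l, i ≠ 0 → κ * i ≠ i := by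
    intro i hi h1
    have h2 : κ = 1 := mul_right_cancel₀ hi (by rw [h1, one_mul])
    rw [h2] at hdiff
    exact (mul_ne_zero h2' h2') (by linear_combination hdiff)
  have hκ2 : ∀ i : ZMod l, i ≠ 0 → κ * i ≠ -i := by
    intro i hi h1
    have h2 : κ = -1 := mul_right_cancel₀ hi (by rw [h1, neg_one_mul])
    rw [h2] at hdiff
    exact (mul_ne_zero h2' h2') (by linear_combination hdiff)
  have hnn : ∀ i : ZMod l, i ≠ 0 → i ≠ -i := by
    intro i hi h1
    exact (mul_ne_zero h2' hi) (by linear_combination h1)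
  have hk0 : κ ≠ 0 := by
    intro h1
    rw [h1] at hdiff
    exact h3' (by linear_combination hdiff)
  -- sums over pairs
  have hpair : ∀ (n : ℕ) (t : Fin n → ZMod l), (∀ k, t k ≠ 0) → (∀ k k', k ≠ k' → t k ≠ t k' ∧ t k ≠ -t k') →
      ∑ k, 2 * dd N e (t k) ≤ 8 := by
    intro n t ht0 htt
    let f : Fin n ⊕ Fin n → ZMod l := Sum.elim t (fun k => -t k)
    have hf : Function.Injective f := by
      rintro (k | k) (k' | k') hkk
      · by_contra hne
        exact (htt k k' (fun h => hne (by rw [h]))).1 hkk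
      · by_cases hkk' : k = k'
        · subst hkk'
          exact absurd hkk (hnn _ (ht0 k))
        · exact absurd hkk (htt k k' hkk').2
      · by_cases hkk' : k' = k
        · subst hkk'
          exact absurd hkk.symm (hnn _ (ht0 k'))
        · exact absurd hkk.symm (htt k' k hkk').2
      · by_contra hne
        exact (htt k k' (fun h => hne (by rw [h]))).1 (neg_injective hkk)
    have h1 := sum_le_of_inj (dd N e) f hf
    rw [Fintype.sum_sum_type, hsum] at h1
    have h2 : ∑ k, dd N e (f (Sum.inr k)) = ∑ k, dd N e (t k) := Finset.sum_congr rfl (fun k _ => hneg (t k))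
    rw [h2] at h1
    rw [← Finset.mul_sum]
    have h3 : ∑ k, dd N e (f (Sum.inl k)) = ∑ k, dd N e (t k) := rfl
    omega
  have hthree : ∀ i, dd N e i ≤ 3 := by
    intro i
    by_contra hcon
    have hi0 : i ≠ 0 := hne0 i (by omega)
    have h1 := hkey i (by omega)
    have h2 := hpair 2 ![i, κ * i] (by
      intro k
      fin_cases k
      · exact hi0
      · exact mul_ne_zero hk0 hi0) (by
      intro k k' hkk
      fin_cases k <;> fin_cases k'
      · exact absurd rfl hkk
      · exact ⟨(hκ1 i hi0).symm, fun h3 => hκ2 i hi0 (by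
          have h4 : i = -(κ * i) := h3
          linear_combination h4)⟩
      · exact ⟨hκ1 i hi0, hκ2 i hi0⟩
      · exact absurd rfl hkk)
    rw [Fin.sum_univ_two] at h2
    have h3 : 2 * dd N e i + 2 * dd N e (κ * i) ≤ 8 := h2
    omega
  refine ⟨hthree, fun i j hi hj => ?_⟩
  by_contra hcon
  push Not at hcon
  obtain ⟨hji, hji'⟩ := hcon
  have hi0 : i ≠ 0 := hne0 i (by omega)
  have hj0 : j ≠ 0 := hne0 j (by omega)
  have hij' : i ≠ -j := fun h1 => hji' (by rw [h1, neg_neg])
  -- `κ i = ± j` and `κ j = ± i`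
  have hgen : ∀ i j : ZMod l, i ≠ 0 → j ≠ 0 → j ≠ i → j ≠ -i → 2 ≤ dd N e i → 2 ≤ dd N e j → κ * i = j ∨ κ * i = -j := by
    intro i j hi0 hj0 hji hji' hi hj
    by_contra hc
    push Not at hc
    have h1 := hkey i hi
    have h2 := hpair 3 ![i, j, κ * i] (by
      intro k
      fin_cases k
      · exact hi0
      · exact hj0
      · exact mul_ne_zero hk0 hi0) (by
      have e1 : i ≠ -j := fun h3 => hji' (by rw [h3, neg_neg])
      have e2 : i ≠ -(κ * i) := fun h3 => hκ2 i hi0 (by linear_combination h3)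
      have e3 : j ≠ -(κ * i) := fun h3 => hc.2 (by linear_combination h3)
      intro k k' hkk
      fin_cases k <;> fin_cases k'
      · exact absurd rfl hkk
      · exact ⟨hji.symm, e1⟩
      · exact ⟨(hκ1 i hi0).symm, e2⟩
      · exact ⟨hji, hji'⟩
      · exact absurd rfl hkk
      · exact ⟨hc.1.symm, e3⟩
      · exact ⟨hκ1 i hi0, hκ2 i hi0⟩
      · exact ⟨hc.1, hc.2⟩
      · exact absurd rfl hkk)
    rw [Fin.sum_univ_three] at h2
    have h3 : 2 * dd N e i + 2 * dd N e j + 2 * dd N e (κ * i) ≤ 8 := h2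
    omega
  have g1 := hgen i j hi0 hj0 hji hji' hi hj
  have g2 := hgen j i hj0 hi0 hji.symm hij' hj hi
  have g3 : (-3 : ZMod l) * i = κ * (κ * i) := by rw [← mul_assoc, hdiff]
  have n2 : (2 : ZMod l) * i ≠ 0 := mul_ne_zero h2' hi0
  have n4 : (2 : ZMod l) * (2 * i) ≠ 0 := mul_ne_zero h2' n2
  rcases g1 with g1 | g1 <;> rcases g2 with g2 | g2
  · rw [g1, g2] at g3
    exact n4 (by linear_combination -g3)
  · rw [g1, g2] at g3
    exact n2 (by linear_combination -g3)
  · rw [g1, mul_neg, g2] at g3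
    exact n2 (by linear_combination -g3)
  · rw [g1, mul_neg, g2, neg_neg] at g3
    exact n4 (by linear_combination -g3)

end main

end Cfsg.Agent.H256.RC
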