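import Cfsg.Agent.H256.RC.ZFour
import Cfsg.Agent.H256.RC.MultK

/-!
# S3510, triality type (iii): multiplicities of an automorphism of the twisted product (helper256)

`Sq c t = {v | c² v + v = t c v}`; `mult_F` : `c ∈ AutD (fG s)`, `c ^ l = 1`, `l ≥ 5` prime dividing `q² - 1`, without fixed
vectors: `dim (Sq c t) ≤ 6` and at most one `t` with `dim (Sq c t) ≥ 4`.
-/

set_option autoImplicit false

namespace Cfsg.Agent.H256.RC

open Module QuadraticMap Cfsg.Agent.LieClassical.OrthCore Cfsg.Agent.LieClassical.OrthTrans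
  Cfsg.Agent.LieClassical.OrthSimple Cfsg.Agent.ClassicalGeometry.OrthAut1
  Cfsg.Agent.ClassicalGeometry.OrthSemi Cfsg.Agent.H198.Classes
  Cfsg.Agent.LieClassical.QuadForms Cfsg.Agent.H198.ClassesPlus
  Cfsg.Agent.ClassicalGeometry.TrialityOct Cfsg.Agent.ClassicalGeometry.Triality
  Cfsg.Agent.ClassicalGeometry.TrialitySpaces Cfsg.Agent.H198.TriBase Cfsg.Agent.H198.TriAut
  Cfsg.Agent.H198.TriDia Cfsg.Agent.H198.TriTC Cfsg.Agent.H198.TwComp

universe u

section ext

variable {F K : Type u} [Field F] [Field K] [Algebra F K]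

/-- the extension of a linear map to `κ → K` -/
noncomputable def exL (K : Type u) [Field K] [Algebra F K] {κ : Type*} (f : V8 F →ₗ[F] (κ → F)) : V8 K →ₗ[K] (κ → K) :=
  (Pi.basisFun K (Fin 4 ⊕ Fin 4)).constr K (fun i => fun k => algebraMap F K (f (Pi.single i (1 : F)) k))

theorem exL_io {κ : Type*} (f : V8 F →ₗ[F] (κ → F)) (x : V8 F) : exL K f (io K x) = fun k => algebraMap F K (f x k) := by
  have h1 : x = ∑ i, x i • (Pi.single i (1 : F) : V8 F) := by
    funext j
    rw [Finset.sum_apply, Finset.sum_eq_single j]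
    · simp
    · intro i _ hij
      simp [hij.symm]
    · intro h
      exact absurd (Finset.mem_univ j) h
  rw [exL, Basis.constr_apply_fintype]
  funext k
  conv_rhs => rw [h1]
  rw [map_sum, Finset.sum_apply, Finset.sum_apply, map_sum]
  refine Finset.sum_congr rfl fun i _ => ?_
  rw [map_smul, Pi.smul_apply, Pi.smul_apply, smul_eq_mul, smul_eq_mul, map_mul]
  rfl

/-- dimension over `F` and over `K` -/
theorem finrank_le_K {W : Submodule F (V8 F)} {U : Submodule K (V8 K)} (h : ∀ x ∈ W, io K x ∈ U) :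
    finrank F W ≤ finrank K U := by
  classical
  let b := Module.finBasis F W
  obtain ⟨f, hf⟩ : ∃ f : V8 F →ₗ[F] (Fin (finrank F W) → F), ∀ w : W, f w = b.equivFun w := by
    obtain ⟨f, hf⟩ := (b.equivFun : W →ₗ[F] (Fin (finrank F W) → F)).exists_extend
    exact ⟨f, fun w => congrArg (fun g : W →ₗ[F] (Fin (finrank F W) → F) => g w) hf⟩
  have hli : LinearIndependent K (fun j : Fin (finrank F W) => (⟨io K (b j), h _ (b j).2⟩ : U)) := by
    rw [Fintype.linearIndependent_iff]
    intro k hk j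
    have h1 : ∑ i, k i • io K (b i : V8 F) = 0 := by
      have := congrArg Subtype.val hk
      simpa using this
    have h2 := congrArg (exL K f) h1
    rw [map_sum, map_zero] at h2
    have h3 := congrFun h2 j
    rw [Finset.sum_apply] at h3
    rw [Finset.sum_eq_single j] at h3
    · rw [map_smul, exL_io, Pi.smul_apply, hf, Basis.equivFun_self, if_pos rfl, map_one, smul_eq_mul, mul_one] at h3
      exact h3
    · intro i _ hij
      rw [map_smul, exL_io, Pi.smul_apply, hf, Basis.equivFun_self, if_neg hij, map_zero, smul_zero]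
    · intro h
      exact absurd (Finset.mem_univ j) h
  have h4 := hli.fintype_card_le_finrank
  rwa [Fintype.card_fin] at h4

end ext

variable {F : Type u} [Field F]

/-- `{v | c² v + v = t c v}` -/
def Sq (c : V8 F ≃ₗ[F] V8 F) (t : F) : Submodule F (V8 F) where
  carrier := {v | c (c v) + v = t • c v}
  zero_mem' := by
    change c (c 0) + 0 = t • c 0
    rw [map_zero, map_zero, add_zero, smul_zero]
  add_mem' := fun {x y} hx hy => by
    change c (c (x + y)) + (x + y) = t • c (x + y)
    have hx' : c (c x) + x = t • c x := hx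
    have hy' : c (c y) + y = t • c y := hy
    rw [map_add, map_add, smul_add, ← hx', ← hy']
    abel
  smul_mem' := fun k x hx => by
    change c (c (k • x)) + k • x = t • c (k • x)
    have hx' : c (c x) + x = t • c x := hx
    rw [map_smul, map_smul, smul_comm t k, ← hx', smul_add]

theorem mem_Sq {c : V8 F ≃ₗ[F] V8 F} {t : F} {v : V8 F} : v ∈ Sq c t ↔ c (c v) + v = t • c v := Iff.rfl

section alg

variable {K : Type u} {V : Type*} [Field K] [AddCommGroup V] [Module K V]

/-- the kernel of `N² - (z + z⁻¹) N + 1` -/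
theorem mem_sup_of_sq {N : V →ₗ[K] V} {z : K} (hz : z ≠ 0) (hzz : z ≠ z⁻¹) {x : V}
    (hx : N (N x) + x = (z + z⁻¹) • N x) : x ∈ Ei N z ⊔ Ei N z⁻¹ := by
  have h1 : N x - z⁻¹ • x ∈ Ei N z := by
    rw [mem_Ei, map_sub, map_smul, eq_sub_of_add_eq hx, add_smul, smul_sub, smul_smul, mul_inv_cancel₀ hz, one_smul]
    abel
  have h2 : N x - z • x ∈ Ei N z⁻¹ := by
    rw [mem_Ei, map_sub, map_smul, eq_sub_of_add_eq hx, add_smul, smul_sub, smul_smul, inv_mul_cancel₀ hz, one_smul]
    abel
  have h3 : x = (z - z⁻¹)⁻¹ • ((N x - z⁻¹ • x) - (N x - z • x)) := by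
    have e1 : (N x - z⁻¹ • x) - (N x - z • x) = (z - z⁻¹) • x := by rw [sub_smul]; abel
    rw [e1, smul_smul, inv_mul_cancel₀ (sub_ne_zero.2 hzz), one_smul]
  rw [h3]
  exact Submodule.smul_mem _ _ (Submodule.sub_mem _ (Submodule.mem_sup_left h1) (Submodule.mem_sup_right h2))

theorem pow_eq_of_mem {N : V →ₗ[K] V} {n : ℕ} (hN : N ^ n = 1) {z : K} {x : V} (hx : x ∈ Ei N z) (hx0 : x ≠ 0) :
    z ^ n = 1 := by
  have h2 : ∀ n : ℕ, (N ^ n) x = z ^ n • x := by
    intro n
    induction n with
    | zero => rw [pow_zero, pow_zero, one_smul]; rfl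
    | succ n ih => rw [pow_succ, Module.End.mul_apply, mem_Ei.1 hx, map_smul, ih, smul_smul, pow_succ, mul_comm]
  have h3 := h2 n
  rw [hN] at h3
  have h4 : (z ^ n - 1) • x = 0 := by rw [sub_smul, ← h3, one_smul]; exact sub_self x
  exact sub_eq_zero.1 ((smul_eq_zero.1 h4).resolve_right hx0)

end alg

/-- the setting over the algebraic closure -/
theorem setting [Finite F] {s : F ≃+* F} (h3 : ∀ a, s (s (s a)) = a) (hne : s ≠ RingEquiv.refl F)
    {c : V8 F ≃ₗ[F] V8 F} (hc : c ∈ AutD (fG s)) {l : ℕ} (hl : l.Prime) (hlF : (l : F) ≠ 0) (hcl : c ^ l = 1) :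
    ∃ (q0 k : ℕ) (φ : AlgebraicClosure F ≃+* AlgebraicClosure F) (e : ZMod l → AlgebraicClosure F),
      Nat.card F = q0 ^ 3 ∧ ((k : ZMod l) = (q0 : ZMod l) ∨ (k : ZMod l) * (q0 : ZMod l) = 1) ∧
      Wt φ l (k : ZMod l) e ∧
      Au3 (plusForm 4 (AlgebraicClosure F)) (gK φ) (dia (fG φ)) l (exN (AlgebraicClosure F) (c : V8 F →ₗ[F] V8 F)) ∧
      (l : AlgebraicClosure F) ≠ 0 ∧ (q0 : ZMod l) ≠ 0 := by
  obtain ⟨q0, hq2, hq, hpp, -, hs⟩ := BQ h3 hne
  have : Fact l.Prime := ⟨hl⟩
  have hlq : ¬ l ∣ q0 := by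
    intro h
    apply hlF
    obtain ⟨p, hp⟩ := CharP.exists F
    have hppr : p.Prime := (CharP.char_is_prime_or_zero F p).resolve_right
      (fun h0 => CharP.char_ne_zero_of_finite F p h0)
    have : Fact p.Prime := ⟨hppr⟩
    have := Fintype.ofFinite F
    obtain ⟨m, -, hm⟩ := FiniteField.card F p
    have h8 : l ∣ Nat.card F := by
      rw [hq]
      exact h.trans (dvd_pow_self q0 (by norm_num))
    rw [Nat.card_eq_fintype_card, hm] at h8
    have h9 : l = p := (Nat.prime_dvd_prime_iff_eq hl hppr).1 (hl.dvd_of_dvd_pow h8)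
    rw [h9]
    exact CharP.cast_eq_zero F p
  obtain ⟨φ, k, hφ, hk, hka⟩ := exists_phi hpp hq hs hl hlq
  have hlK : (l : AlgebraicClosure F) ≠ 0 := by
    intro h0
    apply hlF
    apply (algebraMap F (AlgebraicClosure F)).injective
    rw [map_natCast, map_zero, h0]
  obtain ⟨e, he⟩ := exists_wt hlK hk
  refine ⟨q0, k, φ, e, hq, hka, he, exists_bc h3 hφ hc hcl, hlK, ?_⟩
  rw [Ne, ZMod.natCast_eq_zero_iff]
  exact hlq

/-- multiplicities, with the field `K` given -/
theorem mult_core {K : Type u} [Field K] [Algebra F K] [IsAlgClosed K] {φ : K ≃+* K} {l : ℕ} [Fact l.Prime] {A : ZMod l}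
    {e : ZMod l → K} {c : V8 F ≃ₗ[F] V8 F} (he : Wt φ l A e)
    (hN : Au3 (plusForm 4 K) (gK φ) (dia (fG φ)) l (exN K (c : V8 F →ₗ[F] V8 F))) (hlK : (l : K) ≠ 0) (hl5 : 5 ≤ l)
    (hcase : A = 1 ∨ A = -1 ∨ A * A + A + 1 = 0 ∨ A * A - A + 1 = 0) (hfix : ∀ v, c v = v → v = 0) :
    (∀ t, finrank F (Sq c t) ≤ 6) ∧ ∀ t t', 4 ≤ finrank F (Sq c t) → 4 ≤ finrank F (Sq c t') → t' = t := by
  have hl : l.Prime := Fact.out
  set N := exN K (c : V8 F →ₗ[F] V8 F) with hNdef
  have hNio : ∀ x : V8 F, N (io K x) = io K (c x) := fun x => exN_io _ x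
  have h8 : finrank K (V8 K) = 8 := by
    rw [Module.finrank_fintype_fun_eq_card]
    rfl
  -- no fixed vectors over `K`
  have hfixK : ∀ v : V8 K, N v = v → v = 0 := by
    let C1 : V8 F →ₗ[F] V8 F := (c : V8 F →ₗ[F] V8 F) - LinearMap.id
    have hinj : Function.Injective C1 := by
      rw [injective_iff_map_eq_zero]
      intro v hv
      exact hfix v (sub_eq_zero.1 hv)
    let d : V8 F ≃ₗ[F] V8 F := LinearEquiv.ofInjectiveEndo C1 hinj
    have hd : ∀ x : V8 F, d.symm (c x - x) = x := by
      intro x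
      exact d.symm_apply_apply x
    intro v hv
    have h9 : ∀ v : V8 K, exN K (d.symm : V8 F →ₗ[F] V8 F) (N v - v) = v := by
      intro v
      refine io_induction (F := F) (P := fun v => exN K (d.symm : V8 F →ₗ[F] V8 F) (N v - v) = v) ?_ ?_ ?_ v
      · intro x
        have e1 : N (io K x) - io K x = io K (c x - x) := by
          rw [hNio]
          exact funext fun i => (map_sub (algebraMap F K) _ _).symm
        rw [e1, exN_io]
        exact congrArg (io K) (hd x)
      · intro x y hx hy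
        have e1 : N (x + y) - (x + y) = (N x - x) + (N y - y) := by rw [map_add]; abel
        rw [e1, map_add, hx, hy]
      · intro r x hx
        have e1 : N (r • x) - r • x = r • (N x - x) := by rw [map_smul, smul_sub]
        rw [e1, map_smul, hx]
    have h10 := h9 v
    rw [hv, sub_self, map_zero] at h10
    exact h10.symm
  have h0 : dd N e 0 = 0 := by
    change finrank K (Ei N (e 0)) = 0
    rw [Submodule.finrank_eq_zero, Submodule.eq_bot_iff]
    intro x hx
    rw [mem_Ei, he.zero, one_smul] at hx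
    exact hfixK x hx
  have hQ := Cfsg.Agent.ClassicalGeometry.Triality.nondeg8 (F := K)
  obtain ⟨m1, m2⟩ := mult_K (tk_dia φ) hQ h8 he hN hl5 hcase h0 hlK
  have hneg : ∀ i, dd N e (-i) = dd N e i := he.dd_neg hlK hN hQ
  have hneg1 : ∀ i, e (-i) = (e i)⁻¹ := by
    intro i
    have h11 := he.add i (-i)
    rw [add_neg_cancel, he.zero] at h11
    exact eq_inv_of_mul_eq_one_right h11.symm
  have hlodd : Odd l := hl.odd_of_ne_two (by omega)
  -- the main comparison
  have hmain : ∀ t : F, finrank F (Sq c t) ≠ 0 → ∃ i, algebraMap F K t = e i + e (-i) ∧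
      finrank F (Sq c t) ≤ 2 * dd N e i := by
    intro t ht
    obtain ⟨z, hz⟩ : ∃ z : K, z * z - algebraMap F K t * z + 1 = 0 := by
      have h12 : (Polynomial.C (1 : K) * Polynomial.X ^ 2 + Polynomial.C (-algebraMap F K t) * Polynomial.X +
          Polynomial.C (1 : K)).degree ≠ 0 := by
        rw [Polynomial.degree_quadratic one_ne_zero]
        decide
      obtain ⟨z, hz⟩ := IsAlgClosed.exists_root _ h12
      refine ⟨z, ?_⟩
      have h13 := hz
      rw [Polynomial.IsRoot.def] at h13
      simp only [Polynomial.eval_add, Polynomial.eval_mul, Polynomial.eval_C, Polynomial.eval_pow,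
        Polynomial.eval_X] at h13
      linear_combination h13
    have hz0 : z ≠ 0 := by
      rintro rfl
      simp at hz
    have ht' : algebraMap F K t = z + z⁻¹ := by
      field_simp
      linear_combination -hz
    have hSq : ∀ x ∈ Sq c t, N (N (io K x)) + io K x = (z + z⁻¹) • N (io K x) := by
      intro x hx
      rw [mem_Sq] at hx
      rw [hNio, hNio, ← io_add, hx, io_smul, ht']
    by_cases hzz : z = z⁻¹
    · exfalso
      apply ht
      rw [Submodule.finrank_eq_zero, Submodule.eq_bot_iff]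
      intro x hx
      have hz2 : z ^ 2 = 1 := by
        rw [pow_two]
        conv_lhs => rw [hzz]
        rw [← hzz]
        conv_lhs => arg 2; rw [hzz]
        exact mul_inv_cancel₀ hz0
      have hE : ∀ y ∈ Ei N z, y = 0 := by
        intro y hy
        by_contra hy0
        have h14 := pow_eq_of_mem hN.pow hy hy0
        obtain ⟨j, hj⟩ := hlodd
        rw [hj, pow_add, pow_mul, hz2, one_pow, one_mul, pow_one] at h14
        rw [h14, mem_Ei, one_smul] at hy
        exact hy0 (hfixK y hy)
      have h15 : N (io K x) - z • io K x = 0 := by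
        apply hE
        have h16 := hSq x hx
        rw [mem_Ei, map_sub, map_smul, eq_sub_of_add_eq h16, ← hzz, add_smul, smul_sub, smul_smul, ← pow_two, hz2, one_smul]
        abel
      have h17 := hE (io K x) (mem_Ei.2 (sub_eq_zero.1 h15))
      apply io_inj (K := K)
      rw [h17]
      exact (funext fun _ => map_zero _ : io K (0 : V8 F) = 0).symm
    · have h18 : finrank F (Sq c t) ≤ finrank K (Ei N z) + finrank K (Ei N z⁻¹) :=
        (finrank_le_K (fun x hx => mem_sup_of_sq hz0 hzz (hSq x hx))).trans (Submodule.finrank_add_le_finrank_add_finrank _ _)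
      have hzl : z ^ l = 1 := by
        by_contra hcon
        have h19 : finrank K (Ei N z) = 0 := by
          rw [Submodule.finrank_eq_zero, Submodule.eq_bot_iff]
          intro x hx
          by_contra hx0
          exact hcon (pow_eq_of_mem hN.pow hx hx0)
        have h20 : finrank K (Ei N z⁻¹) = 0 := by
          rw [Submodule.finrank_eq_zero, Submodule.eq_bot_iff]
          intro x hx
          by_contra hx0
          have h21 := pow_eq_of_mem hN.pow hx hx0
          rw [inv_pow, inv_eq_one] at h21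
          exact hcon h21
        omega
      obtain ⟨i, rfl⟩ := he.surj z hzl
      refine ⟨i, by rw [ht', hneg1], ?_⟩
      have h22 := hneg i
      have h23 : finrank K (Ei N (e i)⁻¹) = dd N e (-i) := by rw [← hneg1]; rfl
      have h24 : finrank K (Ei N (e i)) = dd N e i := rfl
      omega
  constructor
  · intro t
    by_cases ht : finrank F (Sq c t) = 0
    · omega
    obtain ⟨i, -, hi⟩ := hmain t ht
    have := m1 i
    omega
  · intro t t' ht ht'
    obtain ⟨i, hti, hi⟩ := hmain t (by omega)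
    obtain ⟨j, htj, hj⟩ := hmain t' (by omega)
    apply (algebraMap F K).injective
    rw [hti, htj]
    rcases m2 i j (by omega) (by omega) with rfl | rfl
    · rfl
    · rw [neg_neg, add_comm]


/-- multiplicities -/
theorem mult_F [Finite F] {s : F ≃+* F} (h3 : ∀ a, s (s (s a)) = a) (hne : s ≠ RingEquiv.refl F)
    {c : V8 F ≃ₗ[F] V8 F} (hc : c ∈ AutD (fG s)) {l : ℕ} (hl : l.Prime) (hl5 : 5 ≤ l)
    (hlq : l ∣ Nat.card F ^ 2 - 1) (hcl : c ^ l = 1) (hfix : ∀ v, c v = v → v = 0) :
    (∀ t, finrank F (Sq c t) ≤ 6) ∧ ∀ t t', 4 ≤ finrank F (Sq c t) → 4 ≤ finrank F (Sq c t') → t' = t := by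
  have hF1 : 1 < Nat.card F := Finite.one_lt_card
  have hlF : (l : F) ≠ 0 := by
    intro h0
    have h4 : (Nat.card F : F) = 0 := by
      have := Fintype.ofFinite F
      rw [Nat.card_eq_fintype_card]
      exact Nat.cast_card_eq_zero F
    obtain ⟨k, hk⟩ := hlq
    have h5 : Nat.card F ^ 2 = l * k + 1 := by
      have : 1 ≤ Nat.card F ^ 2 := Nat.one_le_pow _ _ (by omega)
      omega
    have h6 : ((Nat.card F ^ 2 : ℕ) : F) = ((l * k + 1 : ℕ) : F) := by rw [h5]
    push_cast at h6
    rw [h4, h0] at h6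
    simp at h6
  obtain ⟨q0, k, φ, e, hq, hka, he, hN, hlK, hq0⟩ := setting h3 hne hc hl hlF hcl
  have : Fact l.Prime := ⟨hl⟩
  set A : ZMod l := (k : ZMod l) with hA
  -- the cases for `A`
  have hq6 : (q0 : ZMod l) ^ 6 = 1 := by
    obtain ⟨j, hj⟩ := hlq
    have h5 : Nat.card F ^ 2 = l * j + 1 := by
      have : 1 ≤ Nat.card F ^ 2 := Nat.one_le_pow _ _ (by omega)
      omega
    rw [hq, ← pow_mul] at h5
    have h6 : ((q0 ^ 6 : ℕ) : ZMod l) = ((l * j + 1 : ℕ) : ZMod l) := by rw [← h5]
    push_cast at h6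
    rw [ZMod.natCast_self, zero_mul, zero_add] at h6
    exact h6
  have hA6 : A ^ 6 = 1 := by
    rcases hka with h | h
    · rw [h, hq6]
    · have h7 : A ^ 6 * (q0 : ZMod l) ^ 6 = 1 := by rw [← mul_pow, h, one_pow]
      rwa [hq6, mul_one] at h7
  have hcase : A = 1 ∨ A = -1 ∨ A * A + A + 1 = 0 ∨ A * A - A + 1 = 0 := by
    have h7 : (A - 1) * ((A + 1) * ((A * A + A + 1) * (A * A - A + 1))) = 0 := by linear_combination hA6
    rcases mul_eq_zero.1 h7 with h | h
    · exact Or.inl (sub_eq_zero.1 h)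
    rcases mul_eq_zero.1 h with h | h
    · exact Or.inr (Or.inl (eq_neg_of_add_eq_zero_left h))
    rcases mul_eq_zero.1 h with h | h
    · exact Or.inr (Or.inr (Or.inl h))
    · exact Or.inr (Or.inr (Or.inr h))
  exact mult_core he hN hlK hl5 hcase hfix

end Cfsg.Agent.H256.RC
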