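import Cfsg.Agent.H256.RC.CubeK
import Cfsg.Agent.H256.RC.Mult

/-!
# S3510, triality type (iii), mixed case: `(u - 1)³ = 0` (helper256)
-/

set_option autoImplicit false

namespace Cfsg.Agent.H256.RC

open Module QuadraticMap Cfsg.Agent.LieClassical.OrthCore Cfsg.Agent.LieClassical.OrthTrans
  Cfsg.Agent.LieClassical.OrthSimple Cfsg.Agent.ClassicalGeometry.OrthAut1
  Cfsg.Agent.ClassicalGeometry.OrthSemi Cfsg.Agent.H198.Classes
  Cfsg.Agent.LieClassical.QuadForms Cfsg.Agent.H198.ClassesPlus
  Cfsg.Agent.ClassicalGeometry.TrialityOct Cfsg.Agent.ClassicalGeometry.Triality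
  Cfsg.Agent.ClassicalGeometry.TrialitySpaces Cfsg.Agent.H198.TriBase Cfsg.Agent.H198.TriAut
  Cfsg.Agent.H198.TriDia Cfsg.Agent.H198.TriTC Cfsg.Agent.H198.TwComp

universe u

variable {F : Type u} [Field F]

theorem exN_add {K : Type u} [Field K] [Algebra F K] (c d : V8 F →ₗ[F] V8 F) : exN K (c + d) = exN K c + exN K d := by
  apply LinearMap.ext
  intro v
  refine io_induction (F := F) (P := fun v => exN K (c + d) v = (exN K c + exN K d) v) ?_ ?_ ?_ v
  · intro x
    rw [exN_io, LinearMap.add_apply, LinearMap.add_apply, exN_io, exN_io, io_add]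
  · intro x y hx hy
    rw [map_add, map_add, hx, hy]
  · intro k x hx
    rw [map_smul, map_smul, hx]

theorem exN_mul {K : Type u} [Field K] [Algebra F K] (c d : V8 F →ₗ[F] V8 F) (v : V8 K) :
    exN K c (exN K d v) = exN K (c.comp d) v := by
  refine io_induction (F := F) (P := fun v => exN K c (exN K d v) = exN K (c.comp d) v) ?_ ?_ ?_ v
  · intro x
    rw [exN_io, exN_io, exN_io]
    rfl
  · intro x y hx hy
    rw [map_add, map_add, map_add, hx, hy]
  · intro k x hx
    rw [map_smul, map_smul, map_smul, hx]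

/-- an isometry extends to an isometry -/
theorem exN_iso {K : Type u} [Field K] [Algebra F K] {c : V8 F →ₗ[F] V8 F} (hq : ∀ x, plusForm 4 F (c x) = plusForm 4 F x)
    (v : V8 K) : plusForm 4 K (exN K c v) = plusForm 4 K v := by
  have hp : ∀ x y, polar (plusForm 4 F) (c x) (c y) = polar (plusForm 4 F) x y := by
    intro x y
    simp only [QuadraticMap.polar]
    rw [← map_add, hq, hq, hq]
  have e : ∀ x y : V8 F, polar (plusForm 4 K) (io K x) (io K y) = algebraMap F K (polar (plusForm 4 F) x y) := by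
    intro x y
    simp only [QuadraticMap.polar]
    rw [← io_add, io_norm, io_norm, io_norm, map_sub, map_sub]
  have hpol : ∀ x y : V8 K, polar (plusForm 4 K) (exN K c x) (exN K c y) = polar (plusForm 4 K) x y := by
    intro x y
    refine io_induction (F := F) (P := fun x => polar (plusForm 4 K) (exN K c x) (exN K c y) = polar (plusForm 4 K) x y)
      ?_ ?_ ?_ x
    · intro x
      refine io_induction (F := F) (P := fun y => polar (plusForm 4 K) (exN K c (io K x)) (exN K c y) =
        polar (plusForm 4 K) (io K x) y) ?_ ?_ ?_ y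
      · intro y
        rw [exN_io, exN_io, e, e, hp]
      · intro y z hy hz
        rw [map_add, polar_add_right, polar_add_right, hy, hz]
      · intro k y hy
        rw [map_smul, polar_smul_right, polar_smul_right, hy]
    · intro x z hx hz
      rw [map_add, polar_add_left, polar_add_left, hx, hz]
    · intro k x hx
      rw [map_smul, polar_smul_left, polar_smul_left, hx]
  refine io_induction (F := F) (P := fun v => plusForm 4 K (exN K c v) = plusForm 4 K v) ?_ ?_ ?_ v
  · intro x
    rw [exN_io, io_norm, io_norm, hq]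
  · intro x y hx hy
    have h1 := hpol x y
    rw [map_add, Q_add, Q_add, h1, hx, hy]
  · intro k x hx
    rw [map_smul, QuadraticMap.map_smul, QuadraticMap.map_smul, hx]

/-- `(u - 1)³ = 0` -/
theorem cube_zero [Finite F] {p : ℕ} [CharP F p] (hp2 : p ≠ 2) {s : F ≃+* F} (h3 : ∀ a, s (s (s a)) = a)
    (hne : s ≠ RingEquiv.refl F) {u z : V8 F ≃ₗ[F] V8 F} (hu : u ∈ AutD (fG s)) (hup : u ^ p = 1)
    (hz : z ∈ AutD (fG s)) {r : ℕ} (hr : r.Prime) (hrp : r ≠ p) (hr3 : r ≠ 3) (hzr : z ^ r = 1) (hz1 : z ≠ 1)
    (huz : u * z = z * u) : ((u : V8 F →ₗ[F] V8 F) - (1 : Module.End F (V8 F))) ^ 3 = 0 := by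
  have hpp : p.Prime := (CharP.char_is_prime_or_zero F p).resolve_right
    (fun h0 => CharP.char_ne_zero_of_finite F p h0)
  have : Fact p.Prime := ⟨hpp⟩
  have hrF : (r : F) ≠ 0 := by
    intro h0
    have h1 : p ∣ r := (CharP.cast_eq_zero_iff F p r).1 h0
    exact hrp ((Nat.prime_dvd_prime_iff_eq hpp hr).1 h1).symm
  obtain ⟨q0, k, φ, e, hq, hka, he, hN, hlK, hq0⟩ := setting h3 hne hz hr hrF hzr
  have : Fact r.Prime := ⟨hr⟩
  have hr25 : r = 2 ∨ 5 ≤ r := by
    by_cases h2 : r = 2
    · exact Or.inl h2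
    · right
      have h4 : r ≠ 4 := by rintro rfl; exact absurd hr (by norm_num)
      have := hr.two_le
      omega
  obtain ⟨b, hab⟩ : ∃ b : ZMod r, (k : ZMod r) * b = 1 := by
    rcases hka with h | h
    · exact ⟨(q0 : ZMod r)⁻¹, by rw [h, mul_inv_cancel₀ hq0]⟩
    · exact ⟨q0, h⟩
  have h2F : (2 : F) ≠ 0 := by
    intro h0
    have h1 : p ∣ 2 := (CharP.cast_eq_zero_iff F p 2).1 (by exact_mod_cast h0)
    exact hp2 ((Nat.prime_dvd_prime_iff_eq hpp Nat.prime_two).1 h1)
  have h2K : (2 : AlgebraicClosure F) ≠ 0 := by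
    intro h0
    apply h2F
    apply (algebraMap F (AlgebraicClosure F)).injective
    rw [map_ofNat, map_zero, h0]
  have h8 : finrank (AlgebraicClosure F) (V8 (AlgebraicClosure F)) = 8 := by
    rw [Module.finrank_fintype_fun_eq_card]
    rfl
  have hN1 : exN (AlgebraicClosure F) (z : V8 F →ₗ[F] V8 F) ≠ 1 := by
    intro h0
    apply hz1
    apply LinearEquiv.ext
    intro x
    apply io_inj (K := AlgebraicClosure F)
    have h10 := exN_io (K := AlgebraicClosure F) (z : V8 F →ₗ[F] V8 F) x
    rw [h0] at h10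
    exact h10.symm
  set nF : V8 F →ₗ[F] V8 F := (u : V8 F →ₗ[F] V8 F) - (1 : Module.End F (V8 F)) with hnF
  have hnv : ∀ v, nF v = u v - v := fun v => rfl
  -- nilpotent
  have hnil : nF ^ p = 0 := by
    have h1 : Commute ((u : V8 F →ₗ[F] V8 F) : Module.End F (V8 F)) 1 := Commute.one_right _
    have : CharP (Module.End F (V8 F)) p := by
      refine ⟨fun n => ?_⟩
      rw [← CharP.cast_eq_zero_iff F p n]
      constructor
      · intro h2
        have h3' := congrArg (fun w : Module.End F (V8 F) => w (one8 F)) h2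
        have h4 : ((n : Module.End F (V8 F)) (one8 F)) = (n : F) • one8 F := by
          rw [← nsmul_one, LinearMap.smul_apply, Nat.cast_smul_eq_nsmul]
          rfl
        beta_reduce at h3'
        rw [h4] at h3'
        rcases smul_eq_zero.1 h3' with h5 | h5
        · exact h5
        · exfalso
          have h6 := norm_one8 (F := F)
          rw [h5, QuadraticMap.map_zero] at h6
          exact zero_ne_one h6
      · intro h2
        apply LinearMap.ext
        intro v
        have h4 : ((n : Module.End F (V8 F)) v) = (n : F) • v := by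
          rw [← nsmul_one, LinearMap.smul_apply, Nat.cast_smul_eq_nsmul]
          rfl
        rw [h4, h2, zero_smul]
        rfl
    have h5 : (((u : V8 F →ₗ[F] V8 F) : Module.End F (V8 F)) - 1) ^ p =
        ((u : V8 F →ₗ[F] V8 F) : Module.End F (V8 F)) ^ p - 1 ^ p := sub_pow_char_of_commute p h1
    have h6 : ((u : V8 F →ₗ[F] V8 F) : Module.End F (V8 F)) ^ p = 1 := by
      have h7 : ∀ (i : ℕ) (v : V8 F), (((u : V8 F →ₗ[F] V8 F) : Module.End F (V8 F)) ^ i) v = (u ^ i) v := by
        intro i
        induction i with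
        | zero => intro v; rfl
        | succ i ih => intro v; rw [pow_succ, pow_succ]; exact ih (u v)
      apply LinearMap.ext
      intro v
      rw [h7, hup]
      rfl
    rw [hnF]
    exact h5.trans (by rw [h6, one_pow, sub_self])
  have hexp : ∀ (i : ℕ) (v : V8 (AlgebraicClosure F)),
      ((exN (AlgebraicClosure F) nF : Module.End _ _) ^ i) v =
        exN (AlgebraicClosure F) ((nF : Module.End F (V8 F)) ^ i) v := by
    intro i
    induction i with
    | zero =>
      intro v
      refine io_induction (F := F) (P := fun v => ((exN (AlgebraicClosure F) nF : Module.End _ _) ^ 0) v =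
        exN (AlgebraicClosure F) ((nF : Module.End F (V8 F)) ^ 0) v) ?_ ?_ ?_ v
      · intro x
        rw [exN_io]
        rfl
      · intro x y hx hy
        rw [map_add, map_add, hx, hy]
      · intro k x hx
        rw [map_smul, map_smul, hx]
    | succ i ih =>
      intro v
      rw [pow_succ, pow_succ, Module.End.mul_apply, ih, exN_mul]
      rfl
  have hnilK : ∃ j : ℕ, (exN (AlgebraicClosure F) nF) ^ j = 0 := by
    refine ⟨p, ?_⟩
    apply LinearMap.ext
    intro v
    rw [hexp, hnil]
    refine io_induction (F := F) (P := fun v => exN (AlgebraicClosure F) (0 : V8 F →ₗ[F] V8 F) v =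
      (0 : V8 (AlgebraicClosure F) →ₗ[AlgebraicClosure F] V8 (AlgebraicClosure F)) v) ?_ ?_ ?_ v
    · intro x
      rw [exN_io]
      exact funext fun _ => map_zero _
    · intro x y hx hy
      rw [map_add, map_add, hx, hy]
    · intro k x hx
      rw [map_smul, map_smul, hx]
  have huK : ∀ v, exN (AlgebraicClosure F) (u : V8 F →ₗ[F] V8 F) v = v + exN (AlgebraicClosure F) nF v := by
    intro v
    refine io_induction (F := F) (P := fun v => exN (AlgebraicClosure F) (u : V8 F →ₗ[F] V8 F) v =
      v + exN (AlgebraicClosure F) nF v) ?_ ?_ ?_ v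
    · intro x
      rw [exN_io, exN_io, ← io_add, hnv]
      congr 1
      change u x = x + (u x - x)
      abel
    · intro x y hx hy
      rw [map_add, map_add, hx, hy]
      abel
    · intro k x hx
      rw [map_smul, map_smul, hx, smul_add]
  have h9 := cube_zero_K (tk_dia φ) (Cfsg.Agent.ClassicalGeometry.Triality.nondeg8 (F := AlgebraicClosure F)) h8 he hN
    hr25 hab hlK h2K hN1 (n := exN (AlgebraicClosure F) nF) hnilK
    (fun x => by rw [← huK]; exact exN_iso (fun y => AutD_norm hu y) x)
    (fun x => by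
      rw [exN_mul, exN_mul]
      congr 2
      apply LinearMap.ext
      intro y
      have h11 : u (z y) = z (u y) := congrArg (fun w : V8 F ≃ₗ[F] V8 F => w y) huz
      change u (z y) - z y = z (u y - y)
      rw [map_sub, h11])
  apply LinearMap.ext
  intro x
  apply io_inj (K := AlgebraicClosure F)
  have h12 : io (AlgebraicClosure F) (((nF : Module.End F (V8 F)) ^ 3) x) =
      exN (AlgebraicClosure F) nF (exN (AlgebraicClosure F) nF (exN (AlgebraicClosure F) nF (io _ x))) := by
    rw [exN_io, exN_io, exN_io]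
    rfl
  rw [h12, h9]
  exact (funext fun _ => map_zero _ : io (AlgebraicClosure F) (0 : V8 F) = 0).symm

/-- the same, in the form needed for the mixed case -/
theorem cube_zero' [Finite F] {p : ℕ} [CharP F p] (hp2 : p ≠ 2) {s : F ≃+* F} (h3 : ∀ a, s (s (s a)) = a)
    (hne : s ≠ RingEquiv.refl F) {u z : V8 F ≃ₗ[F] V8 F} (hu : u ∈ AutD (fG s)) (hup : u ^ p = 1)
    (hz : z ∈ AutD (fG s)) {r : ℕ} (hr : r.Prime) (hrp : r ≠ p) (hr3 : r ≠ 3) (hzr : z ^ r = 1) (hz1 : z ≠ 1)
    (huz : u * z = z * u) {D : V8 F →ₗ[F] V8 F} (hD : ∀ v, D v = u v - v) (v : V8 F) : D (D (D v)) = 0 := by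
  have h1 := cube_zero hp2 h3 hne hu hup hz hr hrp hr3 hzr hz1 huz
  have h2 : D = (u : V8 F →ₗ[F] V8 F) - (1 : Module.End F (V8 F)) := LinearMap.ext hD
  rw [← h2] at h1
  exact congrArg (fun w : Module.End F (V8 F) => w v) h1

end Cfsg.Agent.H256.RC
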