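import Cfsg.Agent.H256.RC.MultK
import Cfsg.Agent.H256.RC.ZBase

/-!
# S3510, triality type (iii), mixed case: `(u - 1)³ = 0`; `K`-level (helper256)
-/

set_option autoImplicit false

namespace Cfsg.Agent.H256.RC

open Module QuadraticMap Cfsg.Agent.LieClassical.OrthCore Cfsg.Agent.LieClassical.OrthTrans

universe u v

variable {K : Type u} {V : Type v} [Field K] [AddCommGroup V] [Module K V]
variable {Q : QuadraticForm K V} {φ : K ≃+* K} {g : V → V} {m : V → V → V} {l : ℕ} {N : V →ₗ[K] V}
variable {a b : ZMod l} {e : ZMod l → K}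

/-- a nilpotent map on a space of dimension at most `k` -/
theorem nil_pow [FiniteDimensional K V] {n : V →ₗ[K] V} (hn : ∃ k : ℕ, n ^ k = 0) {W : Submodule K V}
    (hW : ∀ x ∈ W, n x ∈ W) {k : ℕ} (hk : finrank K W ≤ k) {x : V} (hx : x ∈ W) : (n ^ k) x = 0 := by
  obtain ⟨j, hj⟩ := hn
  set f : Module.End K W := n.restrict hW with hf
  have hfk : ∀ (i : ℕ) (y : W), ((f ^ i) y : V) = (n ^ i) y := by
    intro i
    induction i with
    | zero => intro y; rfl
    | succ i ih =>
      intro y
      rw [pow_succ, pow_succ, Module.End.mul_apply, Module.End.mul_apply, ih]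
      rfl
  have hnil : IsNilpotent f := ⟨j, by
    apply LinearMap.ext
    intro y
    apply Subtype.ext
    rw [hfk, hj]
    rfl⟩
  have h1 : f.charpoly = Polynomial.X ^ finrank K W := by
    rw [LinearMap.charpoly_eq_X_pow_iff]
    intro y
    obtain ⟨j', hj'⟩ := hnil
    exact ⟨j', by rw [hj']; rfl⟩
  have h2 : f ^ finrank K W = 0 := by
    have h3 := LinearMap.aeval_self_charpoly f
    rwa [h1, map_pow, Polynomial.aeval_X] at h3
  have h3 : f ^ k = 0 := by
    rw [← Nat.sub_add_cancel hk, pow_add, h2, mul_zero]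
  have h4 := hfk k ⟨x, hx⟩
  rw [h3] at h4
  exact h4.symm

/-- the skew argument on a nondegenerate space of dimension four -/
theorem cube_four [FiniteDimensional K V] (h2 : (2 : K) ≠ 0) {n : V →ₗ[K] V} (hn : ∃ k : ℕ, n ^ k = 0)
    (hiso : ∀ x, Q (x + n x) = Q x) {W : Submodule K V} (hW : ∀ x ∈ W, n x ∈ W) (h4 : finrank K W ≤ 4)
    (hnd : ∀ x ∈ W, (∀ y ∈ W, polar Q x y = 0) → x = 0) {x : V} (hx : x ∈ W) : n (n (n x)) = 0 := by
  have hpol : ∀ x y, polar Q (x + n x) (y + n y) = polar Q x y := by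
    intro x y
    simp only [QuadraticMap.polar]
    have e : x + n x + (y + n y) = (x + y) + n (x + y) := by rw [map_add]; abel
    rw [e, hiso, hiso, hiso]
  have hadj : ∀ x y, polar Q (n x) (y + n y) = -polar Q x (n y) := by
    intro x y
    have h1 := hpol x y
    rw [polar_add_left] at h1
    have h3 : polar Q x (y + n y) = polar Q x y + polar Q x (n y) := polar_add_right Q x y (n y)
    rw [h3] at h1
    linear_combination h1
  have hU : ∀ y, n (y + n y) = n y + n (n y) := fun y => map_add n _ _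
  have h44 : ∀ y ∈ W, n (n (n (n y))) = 0 := fun y hy => nil_pow hn hW h4 hy
  -- skewness
  have hskew : ∀ x ∈ W, ∀ y, polar Q (n (n (n x))) y = -polar Q x (n (n (n y))) := by
    intro x hx y
    have e1 : ∀ z, polar Q (n (n (n x))) (z + n z) = polar Q (n (n (n x))) z := by
      intro z
      have h5 := hpol (n (n (n x))) z
      rwa [h44 x hx, add_zero] at h5
    set y1 := y + n y with hy1
    set y2 := y1 + n y1 with hy2
    have e2 : polar Q (n (n (n x))) (y2 + n y2) = polar Q (n (n (n x))) y := by rw [e1, hy2, e1, hy1, e1]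
    rw [← e2, hadj]
    have e3 : n y2 = (n y1 + n (n y1)) := hU y1
    rw [e3]
    have e4 : polar Q (n (n x)) (n y1 + n (n y1)) = -polar Q (n x) (n (n y1)) := hadj (n x) (n y1)
    rw [e4]
    have e5 : n (n y1) = n (n y) + n (n (n y)) := by rw [hy1, map_add, map_add]
    rw [e5, hadj]
    ring
  by_contra hw
  apply hw
  apply hnd _ (hW _ (hW _ (hW _ hx)))
  set w := n (n (n x)) with hwdef
  have hwx : polar Q w x = 0 := by
    have h5 := hskew x hx x
    rw [← hwdef, polar_comm Q x w] at h5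
    have h6 : 2 * polar Q w x = 0 := by linear_combination h5
    exact (mul_eq_zero.1 h6).resolve_left h2
  have hwn : ∀ y ∈ W, polar Q w (n y) = 0 := by
    intro y hy
    rw [hwdef, hskew x hx, h44 y hy, polar_zero_right, neg_zero]
  -- dimensions
  have h3 : 3 ≤ finrank K (W.map n) := by
    by_contra hcon
    apply hw
    have hst : ∀ y ∈ W.map n, n y ∈ W.map n := by
      rintro _ ⟨y, hy, rfl⟩
      exact ⟨n y, hW y hy, rfl⟩
    exact nil_pow hn hst (k := 2) (by omega) (x := n x) ⟨x, hx, rfl⟩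
  have hxn : x ∉ W.map n := by
    rintro ⟨y, hy, hyx⟩
    apply hw
    rw [hwdef, ← hyx]
    exact h44 y hy
  have hle : W.map n ⊔ (K ∙ x) ≤ W := by
    apply sup_le
    · rintro _ ⟨y, hy, rfl⟩
      exact hW y hy
    · rw [Submodule.span_singleton_le_iff_mem]
      exact hx
  have hlt : W.map n < W.map n ⊔ (K ∙ x) := by
    refine lt_of_le_of_ne le_sup_left (fun h5 => hxn ?_)
    rw [h5]
    exact Submodule.mem_sup_right (Submodule.mem_span_singleton_self x)
  have h5 := Submodule.finrank_lt_finrank_of_lt hlt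
  have h6 : W.map n ⊔ (K ∙ x) = W := Submodule.eq_of_le_of_finrank_le hle (by omega)
  intro y hy
  rw [← h6] at hy
  obtain ⟨y1, hy1, y2, hy2, rfl⟩ := Submodule.mem_sup.1 hy
  obtain ⟨y0, hy0, rfl⟩ := hy1
  obtain ⟨c, rfl⟩ := Submodule.mem_span_singleton.1 hy2
  rw [polar_add_right, hwn y0 hy0, polar_smul_right, hwx, smul_zero, add_zero]

theorem zz2a : ∀ j : ZMod 2, j + j = 0 := by decide
theorem zz2b : ∀ x y : ZMod 2, x * y = 1 → y + x = 0 := by decide
theorem zz2c : ∀ j : ZMod 2, j = -j := by decide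

section main

variable [Fact l.Prime] [IsAlgClosed K] [FiniteDimensional K V]

/-- a weight space of dimension at least four -/
theorem dd_le_three (h : TK Q φ g m) (hQ : Nondeg Q) (h8 : finrank K V = 8) (he : Wt φ l a e) (hN : Au3 Q g m l N)
    (h5 : 5 ≤ l) (hab : a * b = 1) (hl : (l : K) ≠ 0) {i : ZMod l} (hi : i ≠ 0) : dd N e i ≤ 3 := by
  obtain ⟨h2', h3'⟩ := zmod_ne (l := l) h5
  have hneg : ∀ i, dd N e (-i) = dd N e i := he.dd_neg hl hN hQ
  have hsum : ∑ i, dd N e i = 8 := by rw [he.sum_dd hl hN.pow, h8]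
  by_contra hcon
  have hnn : ∀ i : ZMod l, i ≠ 0 → i ≠ -i := by
    intro i hi h1
    exact (mul_ne_zero h2' hi) (by linear_combination h1)
  -- all other weights vanish
  have hother : ∀ j, j ≠ i → j ≠ -i → dd N e j = 0 := by
    intro j hj hj'
    have hf : Function.Injective ![i, -i, j] := by
      intro k k' hkk
      fin_cases k <;> fin_cases k'
      · rfl
      · exact absurd hkk (hnn i hi)
      · exact absurd hkk hj.symm
      · exact absurd hkk (hnn i hi).symm
      · rfl
      · exact absurd hkk hj'.symm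
      · exact absurd hkk hj
      · exact absurd hkk hj'
      · rfl
    have h1 := sum_le_of_inj (dd N e) _ hf
    rw [Fin.sum_univ_three, hsum] at h1
    have h3 : dd N e i + dd N e (-i) + dd N e j ≤ 8 := h1
    rw [hneg] at h3
    omega
  have h0 : dd N e 0 = 0 := hother 0 hi.symm (fun h1 => hi (neg_eq_zero.1 h1.symm))
  have hb3 : b * (b * (b * i)) = i ∨ b * (b * (b * i)) = -i := by
    by_contra hc
    push Not at hc
    have h1 := he.dd_g h hN hQ hab i
    rw [hother _ hc.1 hc.2] at h1
    omega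
  have hb6 : b ^ 6 = 1 := by
    apply mul_right_cancel₀ hi
    rcases hb3 with h1 | h1
    · have e1 : b ^ 6 * i = b * (b * (b * (b * (b * (b * i))))) := by ring
      rw [e1, h1, h1, one_mul]
    · have e1 : b ^ 6 * i = b * (b * (b * (b * (b * (b * i))))) := by ring
      have e2 : b * (b * (b * (-i))) = -(b * (b * (b * i))) := by ring
      rw [e1, h1, e2, h1, neg_neg, one_mul]
  have ha6 : a ^ 6 = 1 := by
    have h1 : a ^ 6 * b ^ 6 = 1 := by rw [← mul_pow, hab, one_pow]
    rwa [hb6, mul_one] at h1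
  have hcase : a = 1 ∨ a = -1 ∨ a * a + a + 1 = 0 ∨ a * a - a + 1 = 0 := by
    have h7 : (a - 1) * ((a + 1) * ((a * a + a + 1) * (a * a - a + 1))) = 0 := by linear_combination ha6
    rcases mul_eq_zero.1 h7 with h | h
    · exact Or.inl (sub_eq_zero.1 h)
    rcases mul_eq_zero.1 h with h | h
    · exact Or.inr (Or.inl (eq_neg_of_add_eq_zero_left h))
    rcases mul_eq_zero.1 h with h | h
    · exact Or.inr (Or.inr (Or.inl h))
    · exact Or.inr (Or.inr (Or.inr h))
  exact hcon ((mult_K h hQ h8 he hN h5 hcase h0 hl).1 i)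

omit [Fact l.Prime] [IsAlgClosed K] [FiniteDimensional K V] in
theorem mul_ns (h : TK Q φ g m) {x k : V} (hk : Q k ≠ 0) (hx : m x k = 0) : x = 0 := by
  obtain ⟨k', rfl⟩ := h.g_surj k
  have h1 := h.right k' x
  rw [hx, h.zero_right] at h1
  refine (smul_eq_zero.1 h1.symm).resolve_left ?_
  intro h2
  apply hk
  rw [h.g_form]
  have h3 : Q k' = 0 := φ.symm.injective (by rw [h2, map_zero])
  rw [h3, map_zero, map_zero, map_zero]

/-- the fixed space has dimension at most four -/
theorem dd_zero_le (h : TK Q φ g m) (hQ : Nondeg Q) (h8 : finrank K V = 8) (he : Wt φ l a e) (hN : Au3 Q g m l N)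
    (hab : a * b = 1) (hl : (l : K) ≠ 0) (hN1 : N ≠ 1) : dd N e 0 ≤ 4 := by
  have ha0 : a ≠ 0 := by
    rintro rfl
    rw [zero_mul] at hab
    exact zero_ne_one hab
  obtain ⟨i, j, x, y, hi, hj, hx, hy, hxy⟩ : ∃ (i j : ZMod l) (x y : V), i ≠ 0 ∧ j ≠ 0 ∧ x ∈ Ei N (e i) ∧
      y ∈ Ei N (e j) ∧ Q (x + y) ≠ 0 := by
    by_contra hcon
    push Not at hcon
    apply hN1
    have h1 : ∀ i, i ≠ 0 → ∀ x ∈ Ei N (e i), x = 0 := by
      intro i hi x hx
      have hs : ∀ i, i ≠ 0 → ∀ x ∈ Ei N (e i), Q x = 0 := by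
        intro i hi x hx
        have := hcon i i x 0 hi hi hx (Submodule.zero_mem _)
        rwa [add_zero] at this
      refine he.perp hl hN hQ hx (fun y hy => ?_)
      have hni : -i ≠ 0 := neg_ne_zero.2 hi
      rw [QuadraticMap.polar, hcon i (-i) x y hi hni hx hy, hs i hi x hx, hs (-i) hni y hy, sub_zero, sub_zero]
    apply LinearMap.ext
    intro x
    have hx : x ∈ ⨆ j, Ei N (e j) := by rw [he.iSup_eq hl hN.pow]; exact Submodule.mem_top
    induction hx using Submodule.iSup_induction' with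
    | mem j y hy =>
      by_cases hj : j = 0
      · subst hj
        rw [mem_Ei, he.zero, one_smul] at hy
        exact hy
      · rw [h1 j hj y hy, map_zero, map_zero]
    | zero => rw [map_zero, map_zero]
    | add y z _ _ h1 h2 => rw [map_add, map_add, h1, h2]
  have h2 := two_finrank_le hQ (Ei N (e 0)) (fun z => m z (x + y)) φ.symm (fun z w => h.add_left z w _)
    (fun k z => h.smul_left k z _) (fun z _ hz => mul_ns h hxy hz) (fun z hz w hw => by
      have e1 : polar Q (m z x) w = 0 := by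
        refine he.polar_zero hN (he.mul_mem h hN hab hz hx) hw ?_
        rw [mul_zero, zero_add, add_zero]
        exact mul_ne_zero ha0 hi
      have e2 : polar Q (m z y) w = 0 := by
        refine he.polar_zero hN (he.mul_mem h hN hab hz hy) hw ?_
        rw [mul_zero, zero_add, add_zero]
        exact mul_ne_zero ha0 hj
      rw [h.add_right, polar_add_left, e1, e2, add_zero])
  rw [h8] at h2
  exact le_of_mul_le_mul_left (show 2 * dd N e 0 ≤ 2 * 4 from h2) two_pos

/-- involutions -/
theorem dd_one_le (h : TK Q φ g m) (hQ : Nondeg Q) (h8 : finrank K V = 8) (he : Wt φ l a e) (hN : Au3 Q g m l N)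
    (hab : a * b = 1) (hl : (l : K) ≠ 0) (hl2 : l = 2) {i : ZMod l} (hi : i ≠ 0) : dd N e i ≤ 4 := by
  have hii : ∀ j : ZMod l, j + j = 0 := by
    subst hl2
    exact fun j => zz2a j
  have hba : b + a = 0 := by
    have ha1 : ∀ x y : ZMod l, x * y = 1 → y + x = 0 := by
      subst hl2
      exact fun x y hxy => zz2b x y hxy
    exact ha1 a b hab
  have hineg : -i = i := neg_eq_of_add_eq_zero_left (hii i)
  by_cases hall : ∀ x ∈ Ei N (e i), Q x = 0
  · have h1 : Ei N (e i) = ⊥ := by
      rw [Submodule.eq_bot_iff]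
      intro x hx
      refine he.perp hl hN hQ hx (fun y hy => ?_)
      rw [hineg] at hy
      rw [QuadraticMap.polar, hall _ (Submodule.add_mem _ hx hy), hall _ hx, hall _ hy, sub_zero, sub_zero]
    have h2 : dd N e i = 0 := by
      change finrank K (Ei N (e i)) = 0
      rw [h1, finrank_bot]
    omega
  · push Not at hall
    obtain ⟨k, hk, hQk⟩ := hall
    have h2 := two_finrank_le hQ (Ei N (e i)) (fun z => m z k) φ.symm (fun z w => h.add_left z w _)
      (fun c z => h.smul_left c z _) (fun z _ hz => mul_ns h hQk hz) (fun z hz w hw => by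
        refine he.polar_zero hN (he.mul_mem h hN hab hz hk) hw ?_
        rw [← add_mul, hba, zero_mul, zero_add]
        exact hi)
    rw [h8] at h2
    exact le_of_mul_le_mul_left (show 2 * dd N e i ≤ 2 * 4 from h2) two_pos

/-- `(u - 1)³ = 0` -/
theorem cube_zero_K (h : TK Q φ g m) (hQ : Nondeg Q) (h8 : finrank K V = 8) (he : Wt φ l a e) (hN : Au3 Q g m l N)
    (hl25 : l = 2 ∨ 5 ≤ l) (hab : a * b = 1) (hl : (l : K) ≠ 0) (h2 : (2 : K) ≠ 0) (hN1 : N ≠ 1) {n : V →ₗ[K] V}
    (hn : ∃ k : ℕ, n ^ k = 0) (hiso : ∀ x, Q (x + n x) = Q x) (hc : ∀ x, n (N x) = N (n x)) (x : V) :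
    n (n (n x)) = 0 := by
  have hst : ∀ i, ∀ x ∈ Ei N (e i), n x ∈ Ei N (e i) := by
    intro i x hx
    rw [mem_Ei] at *
    rw [← hc, hx, map_smul]
  have hnd : ∀ i : ZMod l, i = -i → ∀ x ∈ Ei N (e i), (∀ y ∈ Ei N (e i), polar Q x y = 0) → x = 0 := by
    intro i hi x hx hxy
    refine he.perp hl hN hQ hx (fun y hy => hxy y ?_)
    rwa [← hi] at hy
  have hall : ∀ i, ∀ x ∈ Ei N (e i), n (n (n x)) = 0 := by
    intro i x hx
    by_cases hi : i = 0
    · subst hi
      exact cube_four h2 hn hiso (hst 0) (dd_zero_le h hQ h8 he hN hab hl hN1) (hnd 0 neg_zero.symm) hx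
    · rcases hl25 with h25 | h25
      · have hii : i = -i := by
          have h3 : ∀ j : ZMod l, j = -j := by
            subst h25
            exact fun j => zz2c j
          exact h3 i
        exact cube_four h2 hn hiso (hst i) (dd_one_le h hQ h8 he hN hab hl h25 hi) (hnd i hii) hx
      · exact nil_pow hn (hst i) (dd_le_three h hQ h8 he hN h25 hab hl hi) hx
  have hx : x ∈ ⨆ j, Ei N (e j) := by rw [he.iSup_eq hl hN.pow]; exact Submodule.mem_top
  induction hx using Submodule.iSup_induction' with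
  | mem j y hy => exact hall j y hy
  | zero => rw [map_zero, map_zero, map_zero]
  | add y z _ _ h1 h2 => rw [map_add, map_add, map_add, h1, h2, add_zero]

end main

end Cfsg.Agent.H256.RC
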