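import Cfsg.Agent.H864.RC.DefG
import Cfsg.Agent.H826.Bs.Gauss

/-!
# S3510, triality type iii, box G, P3: three anisotropic planes and a hyperbolic plane are not of plus type (helper256)
-/

set_option autoImplicit false
open Cfsg

namespace Cfsg.Agent.H256.RC

open Module QuadraticMap
open Cfsg.Agent.LieClassical.OrthCore Cfsg.Agent.LieClassical.OrthTrans
open Cfsg.Agent.LieClassical.QuadForms Cfsg.Agent.ClassicalGeometry.Triality
open Cfsg.Agent.H847.Bs Cfsg.Agent.H826.Bs

variable {F : Type} [Field F]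

/-- the Gauss sum of an orthogonal sum of four planes -/
theorem gs_four [Finite F] (P : Fin 4 → Submodule F (V8 F)) (hP : ∀ k, finrank F (P k) = 2)
    (hperp : ∀ k l, k ≠ l → ∀ v ∈ P k, ∀ w ∈ P l, polar (plusForm 4 F) v w = 0)
    (hnd : ∀ k, ∀ v ∈ P k, (∀ w ∈ P k, polar (plusForm 4 F) v w = 0) → v = 0) (c : F) :
    gs (plusForm 4 F) c = ∏ k, gs ((plusForm 4 F).comp (P k).subtype) c := by
  classical
  have : Finite (V8 F) := Module.finite_of_finite F
  have := Fintype.ofFinite (V8 F)
  have : ∀ k, Fintype (P k) := fun k => Fintype.ofFinite _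
  let e : (∀ k, P k) →ₗ[F] V8 F := ∑ k, (P k).subtype.comp (LinearMap.proj k)
  have he : ∀ x, e x = ∑ k, (x k : V8 F) := by
    intro x
    rw [LinearMap.sum_apply]
    rfl
  have hpol : ∀ (x : ∀ k, P k) (k : Fin 4) (w : V8 F), w ∈ P k →
      polar (plusForm 4 F) (∑ j, (x j : V8 F)) w = polar (plusForm 4 F) (x k) w := by
    intro x k w hw
    have h1 : polar (plusForm 4 F) (∑ j, (x j : V8 F)) w = ∑ j, polar (plusForm 4 F) (x j) w := by
      have := map_sum ((polarBilin (plusForm 4 F)).flip w) (fun j => (x j : V8 F)) Finset.univ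
      exact this
    rw [h1, Finset.sum_eq_single k]
    · intro j _ hj
      exact hperp j k hj _ (x j).2 w hw
    · intro h
      exact absurd (Finset.mem_univ k) h
  have hinj : Function.Injective e := by
    rw [injective_iff_map_eq_zero]
    intro x hx
    funext k
    apply Subtype.ext
    refine hnd k _ (x k).2 (fun w hw => ?_)
    rw [← hpol x k w hw, ← he, hx, polar_zero_left]
  have hdim : finrank F (∀ k, P k) = finrank F (V8 F) := by
    rw [Module.finrank_pi_fintype, Module.finrank_fintype_fun_eq_card, Finset.sum_congr rfl fun k _ => hP k]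
    rfl
  have hbij : Function.Bijective e := ⟨hinj, (LinearMap.injective_iff_surjective_of_finrank_eq_finrank hdim).1 hinj⟩
  have hQ : ∀ x : (∀ k, P k), plusForm 4 F (e x) = ∑ k, plusForm 4 F (x k) := by
    intro x
    have h1 : ∀ j k, j ≠ k → polar (plusForm 4 F) (x j : V8 F) (x k) = 0 := fun j k hjk =>
      hperp j k hjk _ (x j).2 _ (x k).2
    rw [he, Fin.sum_univ_four, Fin.sum_univ_four, Q_add, Q_add, Q_add, polar_add_left, polar_add_left, polar_add_left,
      h1 0 1 (by decide), h1 0 2 (by decide), h1 1 2 (by decide), h1 0 3 (by decide), h1 1 3 (by decide),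
      h1 2 3 (by decide)]
    ring
  rw [gs_eq]
  have h2 : ∀ k, gs ((plusForm 4 F).comp (P k).subtype) c = ∑ v : P k, psi F (c * plusForm 4 F v) := fun k => gs_eq _ c
  rw [Finset.prod_congr rfl fun k _ => h2 k, Finset.prod_univ_sum, Fintype.piFinset_univ,
    ← Equiv.sum_comp (Equiv.ofBijective e hbij)]
  refine Finset.sum_congr rfl fun x _ => ?_
  change psi F (c * plusForm 4 F (e x)) = _
  rw [hQ, Finset.mul_sum, Fin.sum_univ_four, Fin.prod_univ_four, AddChar.map_add_eq_mul, AddChar.map_add_eq_mul,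
    AddChar.map_add_eq_mul]

/-- (P3) three anisotropic planes and a hyperbolic plane: the space has minus type -/
theorem type_count [Finite F] (P : Fin 4 → Submodule F (V8 F)) (hP : ∀ k, finrank F (P k) = 2)
    (hperp : ∀ k l, k ≠ l → ∀ v ∈ P k, ∀ w ∈ P l, polar (plusForm 4 F) v w = 0)
    (hnd : ∀ k, ∀ v ∈ P k, (∀ w ∈ P k, polar (plusForm 4 F) v w = 0) → v = 0)
    (k₀ : Fin 4) (han : ∀ k, k ≠ k₀ → ∀ v ∈ P k, plusForm 4 F v = 0 → v = 0)
    {v : V8 F} (hv : v ∈ P k₀) (hv0 : v ≠ 0) (hvs : plusForm 4 F v = 0) : False := by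
  classical
  have : Finite (V8 F) := Module.finite_of_finite F
  have h1 := gs_four P hP hperp hnd 1
  have hq : (Nat.card F : ℂ) ≠ 0 := by
    have : 0 < Nat.card F := Nat.card_pos
    exact_mod_cast this.ne'
  have hN : ∀ k, Nondeg ((plusForm 4 F).comp (P k).subtype) := by
    intro k x hx
    apply Subtype.ext
    exact hnd k _ x.2 (fun w hw => hx ⟨w, hw⟩)
  -- the whole space
  have h2 : gs (plusForm 4 F) 1 = (Nat.card F : ℂ) ^ 4 := by
    have h3 := gs_plus (plusForm 4 F) (Cfsg.Agent.ClassicalGeometry.Triality.nondeg8 (F := F))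
      (Cfsg.Agent.ClassicalGeometry.QuadPlusBasic.stdX 4 F) ⟨?_, ?_⟩ ?_ one_ne_zero
    · rw [h3, Cfsg.Agent.ClassicalGeometry.QuadPlusBasic.finrank_stdX]
    · intro x hx y hy
      change polar (plusForm 4 F) x y = 0
      rw [Cfsg.Agent.ClassicalGeometry.QuadPlusBasic.mem_stdX] at hx hy
      rw [Cfsg.Agent.ClassicalGeometry.TrialityOct.polar8, hx, hx, hx, hx, hy, hy, hy, hy]
      ring
    · intro x hx
      change plusForm 4 F x = 0
      rw [Cfsg.Agent.ClassicalGeometry.QuadPlusBasic.mem_stdX] at hx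
      rw [Cfsg.Agent.ClassicalGeometry.TrialityOct.norm8, hx, hx, hx, hx]
      ring
    · rw [Cfsg.Agent.ClassicalGeometry.QuadPlusBasic.finrank_stdX, Module.finrank_fintype_fun_eq_card]
      rfl
  -- the hyperbolic plane
  have h4 : gs ((plusForm 4 F).comp (P k₀).subtype) 1 = (Nat.card F : ℂ) := by
    have hv1 : (⟨v, hv⟩ : P k₀) ≠ 0 := fun h => hv0 (congrArg Subtype.val h)
    have h3 := gs_plus ((plusForm 4 F).comp (P k₀).subtype) (hN k₀) (F ∙ (⟨v, hv⟩ : P k₀)) ⟨?_, ?_⟩ ?_
      (one_ne_zero : (1 : F) ≠ 0)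
    · rw [h3, finrank_span_singleton hv1, pow_one]
    · intro x hx y hy
      obtain ⟨a, rfl⟩ := Submodule.mem_span_singleton.1 hx
      obtain ⟨b, rfl⟩ := Submodule.mem_span_singleton.1 hy
      change polar (plusForm 4 F) (a • v) (b • v) = 0
      rw [polar_smul_left, polar_smul_right]
      have : polar (plusForm 4 F) v v = 0 := by
        have h5 : polar (plusForm 4 F) v v = 2 * plusForm 4 F v := by
          rw [QuadraticMap.polar, ← two_smul F v, QuadraticMap.map_smul, smul_eq_mul]
          ring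
        rw [h5, hvs, mul_zero]
      rw [this, smul_zero, smul_zero]
    · intro x hx
      obtain ⟨a, rfl⟩ := Submodule.mem_span_singleton.1 hx
      change plusForm 4 F (a • v) = 0
      rw [QuadraticMap.map_smul, hvs, smul_zero]
    · rw [finrank_span_singleton hv1, hP]
  -- the anisotropic planes
  have h5 : ∀ k, k ≠ k₀ → gs ((plusForm 4 F).comp (P k).subtype) 1 = -(Nat.card F : ℂ) := by
    intro k hk
    refine gs_aniso _ (hN k) (hP k) (fun x hx => ?_) one_ne_zero
    exact Subtype.ext (han k hk _ x.2 hx)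
  have h6 : ∏ k, gs ((plusForm 4 F).comp (P k).subtype) 1 = (Nat.card F : ℂ) * (-(Nat.card F : ℂ)) ^ 3 := by
    rw [← Finset.mul_prod_erase _ _ (Finset.mem_univ k₀), h4, Finset.prod_congr rfl fun k hk => h5 k (Finset.ne_of_mem_erase hk),
      Finset.prod_const, Finset.card_erase_of_mem (Finset.mem_univ _), Finset.card_univ, Fintype.card_fin]
  rw [h2, h6] at h1
  have h7 : (Nat.card F : ℂ) ^ 4 = 0 := by linear_combination h1 / 2
  exact hq (pow_eq_zero_iff (by norm_num) |>.1 h7)

end Cfsg.Agent.H256.RC
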