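import Mathlib
import Cfsg.Agent.LieClassical.OrthTrans

/-!
# S3510, triality type (iii): the twisted product over a field extension (helper256)

`TK Q φ g m` : a product `m` on `V`, `φ⁻¹`-semilinear in the first and `φ`-semilinear in the second variable, with a bijection `g`
and `m (m a b) (g a) = φ⁻²(Q a) b`, `m a (m b (g a)) = φ⁻¹(Q a) b`.

* `TK.sing_left`, `TK.sing_right` : the kernels of `m u` and `m · u` are totally singular;
* `Semi.finrank_le` : an injective semilinear map does not decrease the dimension;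
* `TK.exists_zero` : zero divisors (the determinant argument);
* weights.
-/

set_option autoImplicit false

namespace Cfsg.Agent.H256.RC

open Module QuadraticMap Cfsg.Agent.LieClassical.OrthCore Cfsg.Agent.LieClassical.OrthTrans

universe u v

variable {K : Type u} {V : Type v} [Field K] [AddCommGroup V] [Module K V]

/-- See the module docstring. -/
structure TK (Q : QuadraticForm K V) (φ : K ≃+* K) (g : V → V) (m : V → V → V) : Prop where
  add_left : ∀ a b c, m (a + b) c = m a c + m b c
  add_right : ∀ a b c, m a (b + c) = m a b + m a c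
  smul_left : ∀ (k : K) a b, m (k • a) b = φ.symm k • m a b
  smul_right : ∀ (k : K) a b, m a (k • b) = φ k • m a b
  left : ∀ a b, m (m a b) (g a) = φ.symm (φ.symm (Q a)) • b
  right : ∀ a b, m a (m b (g a)) = φ.symm (Q a) • b
  g_add : ∀ a b, g (a + b) = g a + g b
  g_smul : ∀ (k : K) a, g (k • a) = φ.symm (φ.symm (φ.symm k)) • g a
  g_surj : Function.Surjective g
  g_form : ∀ a, Q (g a) = φ.symm (φ.symm (φ.symm (Q a)))

variable {Q : QuadraticForm K V} {φ : K ≃+* K} {g : V → V} {m : V → V → V}

namespace TK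

theorem zero_left (h : TK Q φ g m) (a : V) : m 0 a = 0 := by
  have := h.smul_left 0 0 a
  rwa [zero_smul, map_zero, zero_smul] at this

theorem zero_right (h : TK Q φ g m) (a : V) : m a 0 = 0 := by
  have := h.smul_right 0 a 0
  rwa [zero_smul, map_zero, zero_smul] at this

theorem neg_left (h : TK Q φ g m) (a b : V) : m (-a) b = -m a b := by
  have := h.smul_left (-1) a b
  rwa [neg_one_smul, map_neg, map_one, neg_one_smul] at this

theorem neg_right (h : TK Q φ g m) (a b : V) : m a (-b) = -m a b := by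
  have := h.smul_right (-1) a b
  rwa [neg_one_smul, map_neg, map_one, neg_one_smul] at this

theorem sub_left (h : TK Q φ g m) (a b c : V) : m (a - b) c = m a c - m b c := by
  rw [sub_eq_add_neg, h.add_left, h.neg_left, ← sub_eq_add_neg]

theorem sub_right (h : TK Q φ g m) (a b c : V) : m a (b - c) = m a b - m a c := by
  rw [sub_eq_add_neg, h.add_right, h.neg_right, ← sub_eq_add_neg]

/-- The linearised first law. -/
theorem lin1 (h : TK Q φ g m) (x y z : V) :
    m (m x y) (g z) + m (m z y) (g x) = φ.symm (φ.symm (polar Q x z)) • y := by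
  have h1 := h.left (x + z) y
  rw [h.add_left, h.add_left, h.g_add, h.add_right, h.add_right, h.left, h.left, Q_add, map_add, map_add, map_add,
    map_add, add_smul, add_smul] at h1
  have h2 : m (m x y) (g z) + m (m z y) (g x) =
      (φ.symm (φ.symm (Q x)) • y + m (m x y) (g z) + (m (m z y) (g x) + φ.symm (φ.symm (Q z)) • y)) -
        φ.symm (φ.symm (Q x)) • y - φ.symm (φ.symm (Q z)) • y := by abel
  rw [h2, h1]
  abel

/-- The linearised second law. -/
theorem lin2 (h : TK Q φ g m) (x y z : V) :
    m x (m y (g z)) + m z (m y (g x)) = φ.symm (polar Q x z) • y := by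
  have h1 := h.right (x + z) y
  rw [h.add_left, h.g_add, h.add_right, h.add_right, h.add_right, h.right, h.right, Q_add, map_add, map_add,
    add_smul, add_smul] at h1
  have h2 : m x (m y (g z)) + m z (m y (g x)) =
      (φ.symm (Q x) • y + m x (m y (g z)) + (m z (m y (g x)) + φ.symm (Q z) • y)) -
        φ.symm (Q x) • y - φ.symm (Q z) • y := by abel
  rw [h2, h1]
  abel

theorem g_zero (h : TK Q φ g m) : g 0 = 0 := by
  have := h.g_smul 0 0
  rwa [zero_smul, map_zero, map_zero, map_zero, zero_smul] at this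

theorem g_inj (h : TK Q φ g m) (hQ : Nondeg Q) {x : V} (hx : g x = 0) : x = 0 := by
  apply hQ
  intro y
  have h1 : polar Q (g x) (g y) = φ.symm (φ.symm (φ.symm (polar Q x y))) := by
    rw [QuadraticMap.polar, ← h.g_add, h.g_form, h.g_form, h.g_form, ← map_sub, ← map_sub, ← map_sub, ← map_sub,
      ← map_sub, ← map_sub]
    rfl
  rw [hx, polar_zero_left] at h1
  exact φ.symm.injective (φ.symm.injective (φ.symm.injective (by rw [← h1, map_zero, map_zero, map_zero])))

theorem polar_g (h : TK Q φ g m) (x y : V) :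
    polar Q (g x) (g y) = φ.symm (φ.symm (φ.symm (polar Q x y))) := by
  rw [QuadraticMap.polar, ← h.g_add, h.g_form, h.g_form, h.g_form, ← map_sub, ← map_sub, ← map_sub, ← map_sub, ← map_sub,
    ← map_sub]
  rfl

/-- The kernel of `m u` is totally singular. -/
theorem sing_left (h : TK Q φ g m) {u x y : V} (hu : u ≠ 0) (hx : m u x = 0) (hy : m u y = 0) : polar Q x y = 0 := by
  obtain ⟨x', rfl⟩ := h.g_surj x
  obtain ⟨y', rfl⟩ := h.g_surj y
  have h1 := h.lin2 x' u y'
  rw [hx, hy, h.zero_right, h.zero_right, add_zero] at h1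
  have h2 := (smul_eq_zero.1 h1.symm).resolve_right hu
  rw [h.polar_g, h2, map_zero, map_zero]

theorem sing_left' (h : TK Q φ g m) {u x : V} (hu : u ≠ 0) (hx : m u x = 0) : Q x = 0 := by
  obtain ⟨x', rfl⟩ := h.g_surj x
  have h1 := h.right x' u
  rw [hx, h.zero_right] at h1
  have h2 := (smul_eq_zero.1 h1.symm).resolve_right hu
  rw [h.g_form, h2, map_zero, map_zero]

/-- The kernel of `m · u` is totally singular. -/
theorem sing_right (h : TK Q φ g m) {u x y : V} (hu : u ≠ 0) (hx : m x u = 0) (hy : m y u = 0) : polar Q x y = 0 := by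
  have h1 := h.lin1 x u y
  rw [hx, hy, h.zero_left, h.zero_left, add_zero] at h1
  have h2 := (smul_eq_zero.1 h1.symm).resolve_right hu
  exact φ.symm.injective (φ.symm.injective (by rw [h2, map_zero, map_zero]))

theorem sing_right' (h : TK Q φ g m) {u x : V} (hu : u ≠ 0) (hx : m x u = 0) : Q x = 0 := by
  have h1 := h.left x u
  rw [hx, h.zero_left] at h1
  have h2 := (smul_eq_zero.1 h1.symm).resolve_right hu
  exact φ.symm.injective (φ.symm.injective (by rw [h2, map_zero, map_zero]))

/-- no zero divisors against a zero weight space: `x ⋄ w = 0` for some `x` not orthogonal to `u` -/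
theorem eq_zero_of (h : TK Q φ g m) {u x w : V} (hux : polar Q u x ≠ 0) (h1 : m u w = 0) (h2 : m x w = 0) : w = 0 := by
  by_contra hw
  exact hux (h.sing_right hw h1 h2)

theorem eq_zero_of' (h : TK Q φ g m) {u x w : V} (hux : polar Q u x ≠ 0) (h1 : m w u = 0) (h2 : m w x = 0) : w = 0 := by
  by_contra hw
  exact hux (h.sing_left hw h1 h2)

end TK

/-! ### Semilinear maps -/

section Semi

variable {W : Type*} [AddCommGroup W] [Module K W] {ψ : K ≃+* K}

/-- the linear map with the same values on a basis -/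
noncomputable def linB {ι : Type*} (b : Basis ι K V) (f : V → W) : V →ₗ[K] W := b.constr K (fun i => f (b i))

theorem linB_basis {ι : Type*} (b : Basis ι K V) (f : V → W) (i : ι) : linB b f (b i) = f (b i) := by
  rw [linB, Basis.constr_basis]

/-- the coordinatewise map -/
noncomputable def coB {ι : Type*} [Fintype ι] (b : Basis ι K V) (ψ : K ≃+* K) (v : V) : V := ∑ i, ψ (b.repr v i) • b i

theorem coB_surj {ι : Type*} [Fintype ι] (b : Basis ι K V) (ψ : K ≃+* K) (v : V) : coB b ψ (coB b ψ.symm v) = v := by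
  rw [coB]
  have h1 : ∀ i, b.repr (coB b ψ.symm v) i = ψ.symm (b.repr v i) := by
    intro i
    rw [coB, map_sum, Finsupp.finsetSum_apply, Finset.sum_eq_single i]
    · rw [map_smul, Finsupp.smul_apply, Basis.repr_self, Finsupp.single_eq_same, smul_eq_mul, mul_one]
    · intro j _ hj
      rw [map_smul, Finsupp.smul_apply, Basis.repr_self, Finsupp.single_eq_of_ne (fun h => hj (by first | exact h | exact h.symm)),
        smul_eq_mul, mul_zero]
    · intro hi
      exact absurd (Finset.mem_univ i) hi
  calc ∑ i, ψ (b.repr (coB b ψ.symm v) i) • b i = ∑ i, b.repr v i • b i := by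
        refine Finset.sum_congr rfl fun i _ => ?_
        rw [h1, RingEquiv.apply_symm_apply]
    _ = v := b.sum_repr v

theorem semi_sum {ι : Type*} (s : Finset ι) (f : V → W) (ha : ∀ x y, f (x + y) = f x + f y) (h0 : f 0 = 0) (x : ι → V) :
    f (∑ i ∈ s, x i) = ∑ i ∈ s, f (x i) := by
  classical
  induction s using Finset.induction_on with
  | empty => rw [Finset.sum_empty, Finset.sum_empty, h0]
  | insert a s ha' ih => rw [Finset.sum_insert ha', Finset.sum_insert ha', ha, ih]

/-- a semilinear map is the linear map composed with the coordinatewise map -/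
theorem semi_eq {ι : Type*} [Fintype ι] (b : Basis ι K V) (f : V → W) (ha : ∀ x y, f (x + y) = f x + f y)
    (hs : ∀ (k : K) x, f (k • x) = ψ k • f x) (v : V) : f v = linB b f (coB b ψ v) := by
  have h0 : f 0 = 0 := by
    have := hs 0 0
    rwa [zero_smul, map_zero, zero_smul] at this
  conv_lhs => rw [← b.sum_repr v]
  rw [semi_sum _ f ha h0, coB, map_sum]
  refine Finset.sum_congr rfl fun i _ => ?_
  rw [hs, map_smul, linB_basis]

theorem coB_inj {ι : Type*} [Fintype ι] (b : Basis ι K V) (ψ : K ≃+* K) (v : V) (h : coB b ψ v = 0) : v = 0 := by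
  have h1 : coB b ψ.symm (coB b ψ v) = v := by
    have := coB_surj b ψ.symm v
    rwa [RingEquiv.symm_symm] at this
  rw [← h1, h, coB]
  simp

/-- An injective semilinear map does not decrease the dimension. -/
theorem semi_finrank_le [FiniteDimensional K V] [FiniteDimensional K W] (f : V → W)
    (ha : ∀ x y, f (x + y) = f x + f y) (hs : ∀ (k : K) x, f (k • x) = ψ k • f x) (hi : ∀ x, f x = 0 → x = 0) :
    finrank K V ≤ finrank K W := by
  let b := Module.finBasis K V
  apply LinearMap.finrank_le_finrank_of_injective (f := linB b f)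
  rw [injective_iff_map_eq_zero]
  intro v hv
  rw [← coB_surj b ψ v, ← semi_eq b f ha hs] at hv
  rw [← coB_surj b ψ v, hi _ hv, coB]
  simp

/-- The determinant argument. -/
theorem semi_exists_eigen [IsAlgClosed K] [FiniteDimensional K V] [FiniteDimensional K W] (f₁ f₂ : V → W)
    (ha : ∀ x y, f₁ (x + y) = f₁ x + f₁ y) (hs : ∀ (k : K) x, f₁ (k • x) = ψ k • f₁ x)
    (ha' : ∀ x y, f₂ (x + y) = f₂ x + f₂ y) (hs' : ∀ (k : K) x, f₂ (k • x) = ψ k • f₂ x)
    (hd : finrank K W ≤ finrank K V) (h0 : 0 < finrank K V) (hi : ∀ x, f₁ x = 0 → x = 0) :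
    ∃ (c : K) (x : V), x ≠ 0 ∧ f₂ x = c • f₁ x := by
  let b := Module.finBasis K V
  have h1 : Function.Injective (linB b f₁) := by
    rw [injective_iff_map_eq_zero]
    intro v hv
    rw [← coB_surj b ψ v, ← semi_eq b f₁ ha hs] at hv
    rw [← coB_surj b ψ v, hi _ hv, coB]
    simp
  have h2 : finrank K V = finrank K W := le_antisymm (LinearMap.finrank_le_finrank_of_injective h1) hd
  let e : V ≃ₗ[K] W := LinearEquiv.ofInjectiveOfFinrankEq (linB b f₁) h1 h2
  have he : ∀ v, e v = linB b f₁ v := fun v => rfl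
  have : Nontrivial V := Module.finrank_pos_iff.1 h0
  obtain ⟨c, hc⟩ := Module.End.exists_eigenvalue ((e.symm : W →ₗ[K] V).comp (linB b f₂))
  obtain ⟨v, hv⟩ := hc.exists_hasEigenvector
  have h3 : linB b f₂ v = c • linB b f₁ v := by
    have h4 := hv.apply_eq_smul
    have h5 := congrArg e h4
    rw [map_smul, he, he, LinearMap.comp_apply] at h5
    rw [← h5, ← he]
    exact (e.apply_symm_apply _).symm
  refine ⟨c, coB b ψ.symm v, ?_, ?_⟩
  · intro h6
    exact hv.2 (coB_inj b ψ.symm v h6)
  · rw [semi_eq b f₂ ha' hs', semi_eq b f₁ ha hs, coB_surj]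
    exact h3

end Semi

/-- The determinant argument: zero divisors. `A`, `B`, `C` subspaces, `A ⋄ B ≤ C`, `dim A ≥ 2`, `dim B ≥ dim C`, `B ≠ 0`. -/
theorem TK.exists_zero [IsAlgClosed K] [FiniteDimensional K V] (h : TK Q φ g m) {A B C : Submodule K V}
    (hm : ∀ x ∈ A, ∀ y ∈ B, m x y ∈ C) (hA : 2 ≤ finrank K A) (hB : 0 < finrank K B)
    (hd : finrank K C ≤ finrank K B) : ∃ x ∈ A, ∃ y ∈ B, x ≠ 0 ∧ y ≠ 0 ∧ m x y = 0 := by
  by_contra hcon
  push Not at hcon
  have hpos : 0 < finrank K A := by omega
  have : Nontrivial A := Module.finrank_pos_iff.1 hpos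
  obtain ⟨x₁, hx₁⟩ := exists_ne (0 : A)
  have hlt : finrank K (K ∙ x₁) < finrank K A := by
    rw [finrank_span_singleton hx₁]; omega
  obtain ⟨x₂, hx₂⟩ : ∃ x₂ : A, x₂ ∉ (K ∙ x₁) := by
    by_contra hn
    push Not at hn
    have : (K ∙ x₁) = ⊤ := by
      rw [eq_top_iff]
      intro y _
      exact hn y
    rw [this, finrank_top] at hlt
    exact lt_irrefl _ hlt
  let f : A → B → C := fun x y => ⟨m x y, hm x x.2 y y.2⟩
  obtain ⟨c, y, hy, hc⟩ := semi_exists_eigen (K := K) (ψ := φ) (f x₁) (f x₂)
    (fun a b => Subtype.ext (h.add_right _ _ _)) (fun k a => Subtype.ext (h.smul_right _ _ _))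
    (fun a b => Subtype.ext (h.add_right _ _ _)) (fun k a => Subtype.ext (h.smul_right _ _ _)) hd hB
    (fun y hy => by
      by_contra hy0
      exact hcon x₁ x₁.2 y y.2 (fun h0 => hx₁ (Subtype.ext h0)) (fun h0 => hy0 (Subtype.ext h0))
        (congrArg Subtype.val hy))
  have hc' : m (x₂ : V) y = c • m (x₁ : V) y := congrArg Subtype.val hc
  refine hcon ((x₂ : V) - φ c • (x₁ : V)) (A.sub_mem x₂.2 (A.smul_mem _ x₁.2)) y y.2 ?_
    (fun h0 => hy (Subtype.ext h0)) ?_
  · intro h0
    apply hx₂
    rw [Submodule.mem_span_singleton]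
    exact ⟨φ c, Subtype.ext (sub_eq_zero.1 h0).symm⟩
  · rw [h.sub_left, h.smul_left, RingEquiv.symm_apply_apply, hc', sub_self]

end Cfsg.Agent.H256.RC
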