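import Cfsg.Agent.H256.RC.TwW

/-!
# S3510, triality type (iii): no automorphism of prime order `l ∣ q₀² + 1`, `l` odd; `K`-level (helper256)
-/

set_option autoImplicit false

namespace Cfsg.Agent.H256.RC

open Module QuadraticMap Cfsg.Agent.LieClassical.OrthCore Cfsg.Agent.LieClassical.OrthTrans

universe u v

variable {K : Type u} {V : Type v} [Field K] [AddCommGroup V] [Module K V]
variable {Q : QuadraticForm K V} {φ : K ≃+* K} {g : V → V} {m : V → V → V} {l : ℕ} {N : V →ₗ[K] V}
variable {a : ZMod l} {e : ZMod l → K}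

/-- a sum over a subset given by an injective family -/
theorem sum_le_of_inj [NeZero l] {ι : Type*} [Fintype ι] (f : ZMod l → ℕ) (h : ι → ZMod l) (hi : Function.Injective h) :
    ∑ i, f (h i) ≤ ∑ i, f i := by
  classical
  rw [← Finset.sum_image (s := Finset.univ) (g := h) (fun x _ y _ hxy => hi hxy)]
  exact Finset.sum_le_sum_of_subset (Finset.subset_univ _)

theorem zmod_num [Fact l.Prime] {n : ℕ} (hn : (n : ZMod l) = 0) : l ∣ n := (ZMod.natCast_eq_zero_iff n l).1 hn

theorem no3 : ∀ a : ZMod 3, a * a ≠ -1 := by decide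

/-- the four powers of `a` -/
theorem four_inj [Fact l.Prime] (h2 : l ≠ 2) (ha : a * a = -1) : Function.Injective (fun i : Fin 4 => a ^ (i : ℕ)) := by
  have hp : l.Prime := Fact.out
  have ha0 : a ≠ 0 := by
    rintro rfl
    rw [mul_zero] at ha
    exact one_ne_zero (neg_eq_zero.1 ha.symm)
  have h2' : (2 : ZMod l) ≠ 0 := by
    intro h
    have := (Nat.prime_dvd_prime_iff_eq hp Nat.prime_two).1 (zmod_num (l := l) (n := 2) (by exact_mod_cast h))
    exact h2 this
  have hne : a ≠ 1 := by
    rintro rfl
    apply h2'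
    linear_combination ha
  have hne' : a ≠ -1 := by
    rintro rfl
    apply h2'
    linear_combination ha
  intro i i' h6
  have e3 : a ^ 3 = -a := by linear_combination a * ha
  have e2 : a ^ 2 = -1 := by linear_combination ha
  have f1 : (-1 : ZMod l) ≠ 1 := fun h => h2' (by linear_combination -h)
  have f2 : -a ≠ 1 := fun h => hne' (by linear_combination -h)
  have f3 : -a ≠ a := fun h => (mul_ne_zero h2' ha0) (by linear_combination -h)
  have f4 : -a ≠ -1 := fun h => hne (by linear_combination -h)
  fin_cases i <;> fin_cases i' <;> simp [e3, e2] at h6 ⊢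
  · exact hne h6.symm
  · exact f1 h6.symm
  · exact f2 h6.symm
  · exact hne h6
  · exact hne' h6
  · exact f3 h6.symm
  · exact f1 h6
  · exact hne' h6.symm
  · exact hne h6.symm
  · exact f2 h6
  · exact f3 h6
  · exact hne h6

/-- the twelve classes `± a^k (1 + a)^j t` -/
theorem twelve [Fact l.Prime] (h2 : l ≠ 2) (h5 : l ≠ 5) (ha : a * a = -1) {t : ZMod l} (ht : t ≠ 0) :
    Function.Injective (fun x : Fin 4 × Fin 3 => a ^ (x.1 : ℕ) * ((1 + a) ^ (x.2 : ℕ) * t)) := by
  have hp : l.Prime := Fact.out
  have ha0 : a ≠ 0 := by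
    rintro rfl
    rw [mul_zero] at ha
    exact one_ne_zero (neg_eq_zero.1 ha.symm)
  have ha4 : a ^ 4 = 1 := by linear_combination (a * a - 1) * ha
  have h2' : (2 : ZMod l) ≠ 0 := by
    intro h
    have := (Nat.prime_dvd_prime_iff_eq hp Nat.prime_two).1 (zmod_num (l := l) (n := 2) (by exact_mod_cast h))
    exact h2 this
  have h3' : (3 : ZMod l) ≠ 0 := by
    intro h
    have h3 : l = 3 := (Nat.prime_dvd_prime_iff_eq hp Nat.prime_three).1 (zmod_num (l := l) (n := 3) (by exact_mod_cast h))
    subst h3
    exact no3 a ha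
  have h5' : (5 : ZMod l) ≠ 0 := by
    intro h
    exact h5 ((Nat.prime_dvd_prime_iff_eq hp Nat.prime_five).1 (zmod_num (l := l) (n := 5) (by exact_mod_cast h)))
  have h14 : (1 + a) ^ 4 = -4 := by linear_combination (a * a + 4 * a + 5) * ha
  rintro ⟨i, j⟩ ⟨i', j'⟩ hij
  have hij' : a ^ (i : ℕ) * ((1 + a) ^ (j : ℕ) * t) = a ^ (i' : ℕ) * ((1 + a) ^ (j' : ℕ) * t) := hij
  have h4 : (-4 : ZMod l) ^ (j : ℕ) = (-4 : ZMod l) ^ (j' : ℕ) := by
    have e1 := congrArg (fun z => z ^ 4) hij'
    beta_reduce at e1
    have e2 : ∀ (i j : ℕ), (a ^ i * ((1 + a) ^ j * t)) ^ 4 = (-4) ^ j * t ^ 4 := by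
      intro i j
      rw [mul_pow, mul_pow, ← pow_mul, mul_comm i 4, pow_mul, ha4, one_pow, one_mul, ← pow_mul, mul_comm j 4, pow_mul, h14]
    rw [e2, e2] at e1
    exact mul_right_cancel₀ (pow_ne_zero 4 ht) e1
  have hj : j = j' := by
    have e5 : (5 : ZMod l) ≠ 0 := h5'
    have e15 : (15 : ZMod l) ≠ 0 := by
      intro h
      have : (3 : ZMod l) * 5 = 0 := by rw [← h]; norm_num
      exact (mul_ne_zero h3' h5') this
    have e20 : (20 : ZMod l) ≠ 0 := by
      intro h
      have : (2 : ZMod l) * 2 * 5 = 0 := by rw [← h]; norm_num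
      exact (mul_ne_zero (mul_ne_zero h2' h2') h5') this
    have hv : ∀ k : Fin 3, (-4 : ZMod l) ^ (k : ℕ) = ![1, -4, 16] k := by
      intro k
      fin_cases k
      · exact pow_zero _
      · exact pow_one _
      · change (-4 : ZMod l) ^ 2 = 16
        norm_num
    rw [hv, hv] at h4
    fin_cases j <;> fin_cases j'
    · rfl
    · exact absurd (show (1 : ZMod l) = -4 from h4) (fun h => e5 (by linear_combination h))
    · exact absurd (show (1 : ZMod l) = 16 from h4) (fun h => e15 (by linear_combination -h))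
    · exact absurd (show (-4 : ZMod l) = 1 from h4) (fun h => e5 (by linear_combination -h))
    · rfl
    · exact absurd (show (-4 : ZMod l) = 16 from h4) (fun h => e20 (by linear_combination -h))
    · exact absurd (show (16 : ZMod l) = 1 from h4) (fun h => e15 (by linear_combination h))
    · exact absurd (show (16 : ZMod l) = -4 from h4) (fun h => e20 (by linear_combination h))
    · rfl
  subst hj
  have h1a : (1 + a) ≠ 0 := by
    intro h0
    rw [h0] at h14
    have : (2 : ZMod l) * 2 = 0 := by linear_combination h14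
    exact (mul_ne_zero h2' h2') this
  have h6 : a ^ (i : ℕ) = a ^ (i' : ℕ) :=
    mul_right_cancel₀ (mul_ne_zero (pow_ne_zero _ h1a) ht) hij'
  have hi : i = i' := four_inj h2 ha h6
  rw [hi]


section main

variable [Fact l.Prime] [IsAlgClosed K] [FiniteDimensional K V]

/-- `Z4` over the algebraic closure -/
theorem z4_K (h : TK Q φ g m) (hQ : Nondeg Q) (h8 : finrank K V = 8) (he : Wt φ l a e) (hN : Au3 Q g m l N)
    (ha : a * a = -1) (hl2 : l ≠ 2) (hl : (l : K) ≠ 0) : N = 1 := by
  have hp : l.Prime := Fact.out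
  have hb : a * (-a) = 1 := by rw [mul_neg, ha, neg_neg]
  have ha0 : a ≠ 0 := by
    rintro rfl
    rw [mul_zero] at ha
    exact one_ne_zero (neg_eq_zero.1 ha.symm)
  have h2' : (2 : ZMod l) ≠ 0 := by
    intro h
    have := (Nat.prime_dvd_prime_iff_eq hp Nat.prime_two).1 (zmod_num (l := l) (n := 2) (by exact_mod_cast h))
    exact hl2 this
  have hneg : ∀ i, dd N e (-i) = dd N e i := he.dd_neg hl hN hQ
  have hda : ∀ i, dd N e (a * i) = dd N e i := by
    intro i
    have h1 := he.dd_g h hN hQ hb i
    have h2 : -a * (-a * (-a * i)) = a * i := by linear_combination -a * i * ha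
    rwa [h2] at h1
  have hsum : ∑ i, dd N e i = 8 := by rw [he.sum_dd hl hN.pow, h8]
  by_cases h0 : dd N e 0 = 0
  · exfalso
    have hE0 : ∀ x ∈ Ei N (e 0), x = 0 := by
      intro x hx
      have h1 : finrank K (Ei N (e 0)) = 0 := h0
      rw [Submodule.finrank_eq_zero] at h1
      rw [h1] at hx
      exact (Submodule.mem_bot K).1 hx
    -- no zero divisors
    have hnz : ∀ t : ZMod l, ∀ u ∈ Ei N (e t), ∀ w ∈ Ei N (e (-t)), u ≠ 0 → w ≠ 0 → m u w ≠ 0 := by
      intro t u hu w hw hu0 hw0 h1
      obtain ⟨x, hx, hxu⟩ := he.exists_dual hl hN hQ hu hu0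
      have h2 : m x w = 0 := by
        apply hE0
        have h3 := he.mul_mem h hN hb hx hw
        have h4 : -a * -t + a * -t = 0 := by ring
        rwa [h4] at h3
      exact hw0 (h.eq_zero_of hxu h1 h2)
    have hC : ∀ t : ZMod l, ∀ u ∈ Ei N (e t), ∀ w ∈ Ei N (e (-t)), m u w ∈ Ei N (e (-(a * (2 * t)))) := by
      intro t u hu w hw
      have h3 := he.mul_mem h hN hb hu hw
      have h4 : -a * t + a * -t = -(a * (2 * t)) := by ring
      rwa [h4] at h3
    have hle : ∀ t, dd N e t ≤ dd N e (2 * t) := by
      intro t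
      by_cases ht : dd N e t = 0
      · omega
      have h5 : 0 < finrank K (Ei N (e t)) := Nat.pos_of_ne_zero ht
      have : Nontrivial (Ei N (e t)) := Module.finrank_pos_iff.1 h5
      obtain ⟨u, hu⟩ := exists_ne (0 : Ei N (e t))
      rw [← hneg t, ← hda (2 * t), ← hneg (a * (2 * t))]
      exact semi_finrank_le (K := K) (ψ := φ)
        (fun w : Ei N (e (-t)) => (⟨m u w, hC t u u.2 w w.2⟩ : Ei N (e (-(a * (2 * t))))))
        (fun x y => Subtype.ext (h.add_right _ _ _)) (fun k x => Subtype.ext (h.smul_right _ _ _))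
        (fun w hw => by
          by_contra hw0
          exact hnz t u u.2 w w.2 (fun h6 => hu (Subtype.ext h6)) (fun h6 => hw0 (Subtype.ext h6))
            (congrArg Subtype.val hw))
    have heq : ∀ t, dd N e (2 * t) = dd N e t := inv_of_le h2' hle
    have hone : ∀ t, dd N e t ≤ 1 := by
      intro t
      by_contra hcon
      push Not at hcon
      obtain ⟨x, hx, y, hy, hx0, hy0, hxy⟩ := h.exists_zero (A := Ei N (e t)) (B := Ei N (e (-t)))
        (C := Ei N (e (-(a * (2 * t))))) (hC t) hcon (by
          have := hneg t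
          change finrank K (Ei N (e (-t))) = finrank K (Ei N (e t)) at this
          have h7 : 1 < finrank K (Ei N (e t)) := hcon
          omega) (by
          have h7 : dd N e (-(a * (2 * t))) = dd N e (-t) := by rw [hneg, hda, heq, hneg]
          exact le_of_eq h7)
      exact hnz t x hx y hy hx0 hy0 hxy
    -- closure under `1 + a`
    have hplus : ∀ t, dd N e t ≠ 0 → dd N e ((1 + a) * t) ≠ 0 := by
      intro t ht h9
      have h5 : 0 < finrank K (Ei N (e t)) := Nat.pos_of_ne_zero ht
      have : Nontrivial (Ei N (e t)) := Module.finrank_pos_iff.1 h5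
      obtain ⟨u, hu⟩ := exists_ne (0 : Ei N (e t))
      have h6 : 0 < finrank K (Ei N (e (a * t))) := by
        have := hda t
        change finrank K (Ei N (e (a * t))) = finrank K (Ei N (e t)) at this
        omega
      have : Nontrivial (Ei N (e (a * t))) := Module.finrank_pos_iff.1 h6
      obtain ⟨w, hw⟩ := exists_ne (0 : Ei N (e (a * t)))
      obtain ⟨w', hw', hww⟩ := he.exists_dual hl hN hQ w.2 (fun h7 => hw (Subtype.ext h7))
      have hz : ∀ j, dd N e j = 0 → ∀ x ∈ Ei N (e j), x = 0 := by
        intro j hj x hx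
        have h1 : finrank K (Ei N (e j)) = 0 := hj
        rw [Submodule.finrank_eq_zero] at h1
        rw [h1] at hx
        exact (Submodule.mem_bot K).1 hx
      have e1 : m u w = 0 := by
        refine hz (-((1 + a) * t)) (by rw [hneg, h9]) _ ?_
        have h3 := he.mul_mem h hN hb u.2 w.2
        have h4 : -a * t + a * (a * t) = -((1 + a) * t) := by linear_combination t * ha
        rwa [h4] at h3
      have e2 : m u w' = 0 := by
        refine hz (-(a * ((1 + a) * t))) (by rw [hneg, hda, h9]) _ ?_
        have h3 := he.mul_mem h hN hb u.2 hw'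
        have h4 : -a * t + a * -(a * t) = -(a * ((1 + a) * t)) := by linear_combination (0 : ZMod l) * ha
        rwa [h4] at h3
      exact hww (h.sing_left (fun h7 => hu (Subtype.ext h7)) e1 e2)
    -- a weight
    obtain ⟨t, ht⟩ : ∃ t, dd N e t ≠ 0 := by
      by_contra hcon
      push Not at hcon
      rw [Finset.sum_congr rfl (fun i _ => hcon i)] at hsum
      simp at hsum
    have ht0 : t ≠ 0 := by
      rintro rfl
      exact ht h0
    have h5 : l ≠ 5 := by
      rintro rfl
      have h10 : ∑ i, dd N e i ≤ 5 := by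
        calc ∑ i, dd N e i ≤ ∑ _i : ZMod 5, 1 := Finset.sum_le_sum (fun i _ => hone i)
          _ = 5 := by simp
      omega
    have hinj := twelve hl2 h5 ha ht0
    have h11 := sum_le_of_inj (dd N e) _ hinj
    have h12 : ∀ x : Fin 4 × Fin 3, 1 ≤ dd N e (a ^ (x.1 : ℕ) * ((1 + a) ^ (x.2 : ℕ) * t)) := by
      rintro ⟨i, j⟩
      have e1 : ∀ k : ℕ, dd N e ((1 + a) ^ k * t) ≠ 0 := by
        intro k
        induction k with
        | zero => rwa [pow_zero, one_mul]
        | succ k ih => rw [pow_succ', mul_assoc]; exact hplus _ ih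
      have e2 : ∀ (k : ℕ) (s : ZMod l), dd N e s ≠ 0 → dd N e (a ^ k * s) ≠ 0 := by
        intro k s hs
        induction k with
        | zero => rwa [pow_zero, one_mul]
        | succ k ih => rw [pow_succ', mul_assoc, hda]; exact ih
      exact Nat.one_le_iff_ne_zero.2 (e2 _ _ (e1 _))
    have h13 : 12 ≤ ∑ x : Fin 4 × Fin 3, dd N e (a ^ (x.1 : ℕ) * ((1 + a) ^ (x.2 : ℕ) * t)) := by
      calc 12 = ∑ _x : Fin 4 × Fin 3, 1 := by simp
        _ ≤ _ := Finset.sum_le_sum (fun x _ => h12 x)
    omega
  · have hE : ∀ x ∈ Ei N (e 0), (∀ y ∈ Ei N (e 0), polar Q x y = 0) → x = 0 := by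
      intro x hx hxy
      refine he.perp hl hN hQ hx (fun y hy => hxy y ?_)
      rwa [neg_zero] at hy
    by_cases hall : ∀ t, t ≠ 0 → dd N e t = 0
    · have h1 : dd N e 0 = 8 := by
        rw [← hsum]
        exact (Finset.sum_eq_single 0 (fun t _ ht => hall t ht) (fun h => absurd (Finset.mem_univ _) h)).symm
      have h2 : Ei N (e 0) = ⊤ := by
        apply Submodule.eq_top_of_finrank_eq
        rw [h8]
        exact h1
      apply LinearMap.ext
      intro x
      have h3 : x ∈ Ei N (e 0) := by rw [h2]; exact Submodule.mem_top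
      rw [mem_Ei, he.zero, one_smul] at h3
      exact h3
    · exfalso
      push Not at hall
      obtain ⟨t, ht0, ht⟩ := hall
      have hpow : ∀ (k : ℕ) (s : ZMod l), dd N e (a ^ k * s) = dd N e s := by
        intro k s
        induction k with
        | zero => rw [pow_zero, one_mul]
        | succ k ih => rw [pow_succ', mul_assoc, hda]; exact ih
      have hle : ∀ s, dd N e s ≠ 0 → dd N e 0 ≤ 2 * dd N e s := by
        intro s hs
        have h5 : 0 < finrank K (Ei N (e s)) := Nat.pos_of_ne_zero hs
        have : Nontrivial (Ei N (e s)) := Module.finrank_pos_iff.1 h5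
        obtain ⟨u, hu⟩ := exists_ne (0 : Ei N (e s))
        have h6 := dim_le_two_mul h (A := Ei N (e 0)) (C := Ei N (e (-(a * s)))) (u := (u : V))
          (fun h7 => hu (Subtype.ext h7)) hE (fun x hx => by
            have h3 := he.mul_mem h hN hb u.2 hx
            have h4 : -a * s + a * 0 = -(a * s) := by ring
            rwa [h4] at h3)
        have h7 : dd N e (-(a * s)) = dd N e s := by rw [hneg, hda]
        rw [← h7]
        exact h6
      -- the orbit of `t`
      let f : Option (Fin 4) → ZMod l := fun o => o.elim 0 (fun i => a ^ (i : ℕ) * t)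
      have hf : Function.Injective f := by
        rintro (_ | i) (_ | j) hij
        · rfl
        · exact absurd (show (0 : ZMod l) = a ^ (j : ℕ) * t from hij).symm (mul_ne_zero (pow_ne_zero _ ha0) ht0)
        · exact absurd (show a ^ (i : ℕ) * t = 0 from hij) (mul_ne_zero (pow_ne_zero _ ha0) ht0)
        · exact congrArg some (four_inj hl2 ha (mul_right_cancel₀ ht0 (show a ^ (i : ℕ) * t = a ^ (j : ℕ) * t from hij)))
      have hfs : ∑ o, dd N e (f o) = dd N e 0 + 4 * dd N e t := by
        rw [Fintype.sum_option]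
        change dd N e 0 + ∑ i : Fin 4, dd N e (a ^ (i : ℕ) * t) = _
        have h8' : ∑ i : Fin 4, dd N e (a ^ (i : ℕ) * t) = ∑ _i : Fin 4, dd N e t :=
          Finset.sum_congr rfl (fun i _ => hpow i t)
        rw [h8']
        simp
      have h9 := sum_le_of_inj (dd N e) f hf
      have h10 := hle t ht
      by_cases hrest : ∀ s, (∀ o, s ≠ f o) → dd N e s = 0
      · have h11 : ∑ i, dd N e i = ∑ o, dd N e (f o) := by
          classical
          rw [← Finset.sum_image (s := Finset.univ) (g := f) (fun x _ y _ hxy => hf hxy)]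
          symm
          apply Finset.sum_subset (Finset.subset_univ _)
          intro s _ hs
          apply hrest
          intro o ho
          exact hs (Finset.mem_image.2 ⟨o, Finset.mem_univ _, ho.symm⟩)
        omega
      · push Not at hrest
        obtain ⟨s, hs, hs'⟩ := hrest
        have hs0 : s ≠ 0 := hs none
        have hst : ∀ i : ℕ, i < 4 → s ≠ a ^ i * t := fun i hi => hs (some ⟨i, hi⟩)
        have ha4 : a ^ 4 = 1 := by linear_combination (a * a - 1) * ha
        let f2 : Option (Fin 4) ⊕ Fin 4 → ZMod l := Sum.elim f (fun i => a ^ (i : ℕ) * s)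
        have hf2 : Function.Injective f2 := by
          rintro (o | i) (o' | j) hij
          · exact congrArg Sum.inl (hf hij)
          · exfalso
            have h12 : f o = a ^ (j : ℕ) * s := hij
            rcases o with _ | i
            · exact (mul_ne_zero (pow_ne_zero _ ha0) hs0) h12.symm
            · have h13 : a ^ (i : ℕ) * t = a ^ (j : ℕ) * s := h12
              have h14 : s = a ^ ((i + (4 - j)) % 4 : ℕ) * t := by
                have e1 : a ^ ((i + (4 - j)) % 4 : ℕ) = a ^ ((i : ℕ) + (4 - (j : ℕ))) := by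
                  conv_rhs => rw [← Nat.mod_add_div ((i : ℕ) + (4 - (j : ℕ))) 4, pow_add, pow_mul, ha4, one_pow, mul_one]
                rw [e1, pow_add, mul_assoc, mul_comm (a ^ (4 - (j : ℕ))), ← mul_assoc, h13, mul_comm (a ^ (j : ℕ)),
                  mul_assoc, ← pow_add]
                have e2 : (j : ℕ) + (4 - (j : ℕ)) = 4 := by omega
                rw [e2, ha4, mul_one]
              exact hst _ (Nat.mod_lt _ (by norm_num)) h14
          · exfalso
            have h12 : f o' = a ^ (i : ℕ) * s := hij.symm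
            rcases o' with _ | j
            · exact (mul_ne_zero (pow_ne_zero _ ha0) hs0) h12.symm
            · have h13 : a ^ (j : ℕ) * t = a ^ (i : ℕ) * s := h12
              have h14 : s = a ^ ((j + (4 - i)) % 4 : ℕ) * t := by
                have e1 : a ^ ((j + (4 - i)) % 4 : ℕ) = a ^ ((j : ℕ) + (4 - (i : ℕ))) := by
                  conv_rhs => rw [← Nat.mod_add_div ((j : ℕ) + (4 - (i : ℕ))) 4, pow_add, pow_mul, ha4, one_pow, mul_one]
                rw [e1, pow_add, mul_assoc, mul_comm (a ^ (4 - (i : ℕ))), ← mul_assoc, h13, mul_comm (a ^ (i : ℕ)),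
                  mul_assoc, ← pow_add]
                have e2 : (i : ℕ) + (4 - (i : ℕ)) = 4 := by omega
                rw [e2, ha4, mul_one]
              exact hst _ (Nat.mod_lt _ (by norm_num)) h14
          · exact congrArg Sum.inr (four_inj hl2 ha (mul_right_cancel₀ hs0 hij))
        have h15 := sum_le_of_inj (dd N e) f2 hf2
        rw [Fintype.sum_sum_type] at h15
        have h16 : ∑ i : Fin 4, dd N e (f2 (Sum.inr i)) = 4 * dd N e s := by
          have h8' : ∑ i : Fin 4, dd N e (a ^ (i : ℕ) * s) = ∑ _i : Fin 4, dd N e s :=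
            Finset.sum_congr rfl (fun i _ => hpow i s)
          refine h8'.trans ?_
          simp
        have h17 : ∑ o, dd N e (f2 (Sum.inl o)) = dd N e 0 + 4 * dd N e t := hfs
        omega

end main

end Cfsg.Agent.H256.RC
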